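import Mathlib
import Cfsg.Agent.LX.Main

/-!
Involutions `z` with `QQ z` extraspecial of order `2^9` and `C(z) / QQ z` between `3 × A₆` and
`S₃ × S₆`: definitions (see `stubs/Cfsg/Agent/X6/PLAN.md`).
-/

set_option autoImplicit false
set_option linter.unusedSectionVars false

namespace Cfsg.Agent.X6

open Cfsg.Agent.Spor Cfsg.Agent.Spor.TT Cfsg.Agent.Cl Cfsg.Agent.LX Subgroup QuadraticMap Module
  Equiv Equiv.Perm

/-! ### Real vectors -/

/-- Real vectors: the fixed points of the semilinear map exchanging the coordinates `0, 1` and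
`2, 3`. -/
def Re4 (v : V4) : Prop := v 1 = s4 (v 0) ∧ v 3 = s4 (v 2)

instance : DecidablePred Re4 := fun v => inferInstanceAs (Decidable (v 1 = s4 (v 0) ∧ v 3 = s4 (v 2)))

theorem Re4.eq {v : V4} (h : Re4 v) : v = ![v 0, s4 (v 0), v 2, s4 (v 2)] := by
  funext i
  fin_cases i
  exacts [rfl, h.1, rfl, h.2]

theorem re4_mk (a b : F4) : Re4 ![a, s4 a, b, s4 b] := ⟨rfl, rfl⟩

theorem re4_zero : Re4 0 := ⟨(map_zero _).symm, (map_zero _).symm⟩

theorem Re4.add {u v : V4} (hu : Re4 u) (hv : Re4 v) : Re4 (u + v) :=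
  ⟨by simp only [Pi.add_apply, hu.1, hv.1, map_add], by simp only [Pi.add_apply, hu.2, hv.2, map_add]⟩

theorem Re4.smul {u : V4} (hu : Re4 u) {c : F4} (hc : s4 c = c) : Re4 (c • u) :=
  ⟨by simp only [Pi.smul_apply, smul_eq_mul, hu.1, map_mul, hc],
    by simp only [Pi.smul_apply, smul_eq_mul, hu.2, map_mul, hc]⟩

/-- The form on real vectors, in coordinates. -/
theorem Re4.B {u v : V4} (hu : Re4 u) (hv : Re4 v) :
    B4 u v = u 0 * s4 (v 0) + s4 (u 0) * v 0 + u 2 * s4 (v 2) + s4 (u 2) * v 2 := by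
  rw [B4_eq, hu.1, hu.2, hv.1, hv.2, s4_s4, s4_s4]

theorem Re4.B_fix {u v : V4} (hu : Re4 u) (hv : Re4 v) : s4 (B4 u v) = B4 u v := by
  rw [hu.B hv]
  simp only [map_add, map_mul, s4_s4]
  ring

theorem Re4.B_symm {u v : V4} (hu : Re4 u) (hv : Re4 v) : B4 u v = B4 v u := by
  rw [← B4_symm u v, hu.B_fix hv]

theorem Re4.B_cases {u v : V4} (hu : Re4 u) (hv : Re4 v) : B4 u v = 0 ∨ B4 u v = 1 :=
  f4_fixed _ (hu.B_fix hv)

theorem Re4.B_self {u : V4} (hu : Re4 u) : B4 u u = 0 := by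
  have k : ∀ a b : F4, a * s4 a + s4 a * a + b * s4 b + s4 b * b = 0 := by decide
  rw [hu.B hu, k]

/-- A scalar keeping a non-zero real vector real is real. -/
theorem Re4.of_smul {u : V4} (hu : Re4 u) (h0 : u ≠ 0) {c : F4} (hc : Re4 (c • u)) : s4 c = c := by
  have k : ∀ a c : F4, c * s4 a = s4 (c * a) → a = 0 ∨ s4 c = c := by decide
  by_contra n
  have h1 := (k (u 0) c (by rw [← hu.1]; exact hc.1)).resolve_right n
  have h2 := (k (u 2) c (by rw [← hu.2]; exact hc.2)).resolve_right n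
  refine h0 (hu.eq.trans ?_)
  rw [h1, h2, map_zero]
  funext i
  fin_cases i <;> rfl

/-- Real and imaginary parts. -/
theorem exists_re (v : V4) : ∃ s t, Re4 s ∧ Re4 t ∧ v = s + om • t := by
  have k : ∀ a b : F4, ∃ c d : F4, a = c + om * d ∧ b = s4 c + om * s4 d := by decide
  obtain ⟨c, d, h0, h1⟩ := k (v 0) (v 1)
  obtain ⟨c', d', h2, h3⟩ := k (v 2) (v 3)
  refine ⟨_, _, re4_mk c c', re4_mk d d', funext fun i => ?_⟩
  fin_cases i
  exacts [h0, h1, h2, h3]

theorem Re4.eq_zero {t : V4} (ht : Re4 t) (h : Re4 (om • t)) : t = 0 := by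
  by_contra n
  exact absurd (ht.of_smul n h) (by decide)

theorem re_inj {s t s' t' : V4} (hs : Re4 s) (ht : Re4 t) (hs' : Re4 s') (ht' : Re4 t')
    (e : s + om • t = s' + om • t') : s = s' ∧ t = t' := by
  have k : om • (t + t') = s + s' := by
    rw [smul_add, eq_of_add_eq e, add_assoc s, add_assoc s', v4_add_self, add_zero]
  have k2 := v4_add_eq_zero.1 ((ht.add ht').eq_zero (k ▸ hs.add hs'))
  exact ⟨add_right_cancel (k2 ▸ e), k2⟩

theorem B4_re {s t x : V4} : B4 (s + om • t) x = B4 s x + om * B4 t x := by rw [B4_al, B4_sl]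

/-- The trace form of a real vector with an arbitrary vector. -/
theorem tr4_re {x s t : V4} (hx : Re4 x) (hs : Re4 s) (ht : Re4 t) :
    LX.tr4 x (s + om • t) = B4 t x := by
  have k : ∀ a b : F4, s4 b = b → a + s4 om * b + (a + om * b) = b := by decide
  rw [LX.tr4, B4_ar, B4_sr, B4_re, hx.B_symm hs, hx.B_symm ht, k _ _ (ht.B_fix hx)]

theorem Re4.exists_B {x : V4} (hx : Re4 x) (h0 : x ≠ 0) : ∃ y, Re4 y ∧ B4 y x = 1 := by
  obtain ⟨w, hw⟩ := exists_B4 h0 1
  obtain ⟨s, t, hs, ht, rfl⟩ := exists_re w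
  rw [B4_re] at hw
  rcases hs.B_cases hx with e | e
  · rcases ht.B_cases hx with e' | e' <;> rw [e, e'] at hw <;> exact absurd hw (by decide)
  · exact ⟨s, hs, e⟩

theorem Re4.pl {x p : V4} (hx : Re4 x) (hp : Re4 p) (x0 : x ≠ 0) (p0 : p ≠ 0) (hn : x ≠ p)
    (hB : B4 x p = 0) : Pl x p := by
  refine ⟨LinearIndependent.pair_iff' x0 |>.2 fun c e => ?_, hx.B_self, hp.B_self, hB⟩
  rcases f4_fixed _ (hx.of_smul x0 (e ▸ hp)) with rfl | rfl
  · exact p0 (by rw [← e, zero_smul])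
  · exact hn (by rw [← e, one_smul])

/-! ### The two configurations in the group -/

variable {G : Type*} [Group G]

/-- The tensor case: unitary coordinates in which the centraliser of `z` permutes the three scalar
multiples of the space of real vectors. -/
structure TCo (z : G) (π : G → V4) (act : G → V4 → V4) : Prop extends UCo0 z π act where
  real : ∀ g, Commute z g → ∃ c : F4, c ≠ 0 ∧ ∀ p, Re4 p → Re4 (c • act g p)
  sc : ∃ w, Commute z w ∧ ∀ v, act w v = om • v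
  rot : ∀ x p, Re4 x → Re4 p → x ≠ 0 → p ≠ 0 → x ≠ p → B4 x p = 0 →
    ∃ g, Commute z g ∧ Lin (act g) ∧ act g x = p ∧ act g p = x + p

/-- The tensor case holds. -/
def HT (z : G) : Prop := ∃ π act, TCo z π act

theorem TCo.cj {z : G} {π : G → V4} {act : G → V4 → V4} (h : TCo z π act) (g : G) :
    TCo (TT.cj g z) (fun x => π (TT.cj g⁻¹ x)) (fun c => act (TT.cj g⁻¹ c)) := by
  refine ⟨h.toUCo0.cj g, fun c hc => h.real _ (commute_cj_left.1 hc), ?_, fun x p h1 h2 h3 h4 h5 h6 => ?_⟩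
  · obtain ⟨w, h1, h2⟩ := h.sc
    exact ⟨TT.cj g w, commute_cj.2 h1, by simpa only [cj_inv_cj] using h2⟩
  · obtain ⟨w, k1, k2⟩ := h.rot x p h1 h2 h3 h4 h5 h6
    exact ⟨TT.cj g w, commute_cj.2 k1, by simpa only [cj_inv_cj] using k2⟩

theorem HT.of_isConj {z a : G} (h : HT z) (ha : IsConj z a) : HT a := by
  obtain ⟨g, rfl⟩ := exists_cj ha
  obtain ⟨π, act, h⟩ := h
  exact ⟨_, _, h.cj g⟩

/-- An element keeping one non-zero real vector real preserves the real vectors. -/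
theorem TCo.re {z g : G} {π : G → V4} {act : G → V4 → V4} (h : TCo z π act) (hg : Commute z g)
    {x : V4} (hx : Re4 x) (h0 : x ≠ 0) (hgx : Re4 (act g x)) {p : V4}
    (hp : Re4 p) : Re4 (act g p) := by
  obtain ⟨c, c0, k⟩ := h.real g hg
  have n : act g x ≠ 0 := fun e => h0 (h.act_injective hg (e.trans (h.act_zero hg).symm))
  rcases f4_fixed _ (hgx.of_smul n (k x hx)) with rfl | rfl
  · exact absurd rfl c0
  · simpa only [one_smul] using k p hp

/-- A linear element whose square acts trivially preserves the real vectors. -/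
theorem TCo.re_of_sq {z g : G} {π : G → V4} {act : G → V4 → V4} (h : TCo z π act) (hg : Commute z g)
    (hl : Lin (act g)) (hq : g * g ∈ QQ z) {p : V4} (hp : Re4 p) : Re4 (act g p) := by
  obtain ⟨c, c0, k⟩ := h.real g hg
  have x0 : (![1, s4 1, 0, s4 0] : V4) ≠ 0 := fun e => absurd (congrFun e 0) (by decide)
  have := k _ (k _ (re4_mk 1 0))
  rw [hl, ← h.act_mul hg hg, h.act_of_mem hq, smul_smul] at this
  have k2 : ∀ c : F4, c ≠ 0 → s4 (c * c) = c * c → c = 1 := by decide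
  obtain rfl := k2 c c0 ((re4_mk 1 0).of_smul x0 this)
  simpa only [one_smul] using k p hp

/-- A cyclic subgroup of order four of `QQ z` that is normal in the centraliser of `z`. -/
structure YH (z y : G) : Prop where
  big : Big z
  y_mem : y ∈ QQ z
  y_sq : y * y = z
  y_norm : ∀ g, Commute z g → TT.cj g y = y ∨ TT.cj g y = z * y

/-- An element of order three generating a normal subgroup of `C(z) / QQ z`, with `[QQ z, w]`
quaternion of order eight. -/
structure WH (z w : G) : Prop where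
  big : Big z
  comm : Commute z w
  pow3 : w ^ 3 = 1
  norm : ∀ g, Commute z g → TT.cj g w * w⁻¹ ∈ QQ z ∨ TT.cj g w * w ∈ QQ z
  card : Nat.card ↥(QQ z ⊓ centralizer ({w} : Set G)) = 128

/-! ### Labelling by `S₃ × S₆` -/

/-- The cycle `0 ↦ 1 ↦ 2`. -/
def c3 : Perm (Fin 3) := swap 0 2 * swap 0 1
/-- The cycle `0 ↦ 1 ↦ 2`. -/
def r1 : Perm (Fin 6) := swap 0 2 * swap 0 1
/-- The cycle `3 ↦ 4 ↦ 5`. -/
def r2 : Perm (Fin 6) := swap 3 5 * swap 3 4
/-- An involution inverting `r1` and `r2`. -/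
def t0 : Perm (Fin 6) := swap 0 1 * swap 3 4
/-- `0 ↦ 3 ↦ 1 ↦ 4 ↦ 0`, `2 ↔ 5`: conjugates `r1` to `r2` and `r2` to `r1⁻¹`. -/
def t4 : Perm (Fin 6) := swap 0 4 * swap 0 1 * swap 0 3 * swap 2 5

variable {Y : Type*} [Group Y]

/-- An embedding into `S₃ × S₆` with image containing `A₃ × A₆`. -/
structure S36 (φ : Y →* Perm (Fin 3) × Perm (Fin 6)) : Prop where
  inj : Function.Injective φ
  sur : ∀ σ τ, sign σ = 1 → sign τ = 1 → ∃ y, φ y = (σ, τ)

namespace S36

variable {φ : Y →* Perm (Fin 3) × Perm (Fin 6)} {τ τ' : Perm (Fin 6)} {w g : Y}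

/-- The element with label `(1, τ)` for an even permutation `τ`. -/
noncomputable def el (h : S36 φ) (τ : Perm (Fin 6)) : Y :=
  if k : sign τ = 1 then (h.sur 1 τ (map_one _) k).choose else 1

theorem φ_el (h : S36 φ) (k : sign τ = 1) : φ (h.el τ) = (1, τ) := by
  rw [el, dif_pos k]
  exact (h.sur 1 τ (map_one _) k).choose_spec

theorem el_one (h : S36 φ) : h.el 1 = 1 := h.inj (by rw [h.φ_el (map_one _), map_one]; rfl)

theorem el_mul (h : S36 φ) (k : sign τ = 1) (k' : sign τ' = 1) :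
    h.el (τ * τ') = h.el τ * h.el τ' :=
  h.inj (by rw [map_mul, h.φ_el k, h.φ_el k', h.φ_el (by rw [map_mul, k, k', mul_one])]; rfl)

theorem el_inv (h : S36 φ) (k : sign τ = 1) : h.el τ⁻¹ = (h.el τ)⁻¹ :=
  h.inj (by rw [map_inv, h.φ_el k, h.φ_el (by rw [sign_inv, k])]; rfl)

theorem el_pow (h : S36 φ) (k : sign τ = 1) (n : ℕ) : h.el (τ ^ n) = h.el τ ^ n :=
  h.inj (by rw [map_pow, h.φ_el k, h.φ_el (by rw [map_pow, k, one_pow]), Prod.pow_mk, one_pow])

theorem el_inj (h : S36 φ) (k : sign τ = 1) (k' : sign τ' = 1) (e : h.el τ = h.el τ') : τ = τ' :=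
  congrArg Prod.snd ((h.φ_el k).symm.trans (e ▸ h.φ_el k'))

theorem cj_el (h : S36 φ) (k : sign τ = 1) (g : Y) :
    TT.cj g (h.el τ) = h.el ((φ g).2 * τ * (φ g).2⁻¹) :=
  h.inj (by
    rw [cj_def, map_mul, map_mul, map_inv, h.φ_el k, h.φ_el (by simp [k])]
    exact Prod.ext (by simp) rfl)

theorem cj_el_el (h : S36 φ) (k : sign τ = 1) (k' : sign τ' = 1) :
    TT.cj (h.el τ') (h.el τ) = h.el (τ' * τ * τ'⁻¹) := by rw [h.cj_el k, h.φ_el k']

theorem el_comm (h : S36 φ) (k : sign τ = 1) (k' : sign τ' = 1) (e : τ * τ' = τ' * τ) :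
    Commute (h.el τ) (h.el τ') := by
  rw [Commute, SemiconjBy, ← h.el_mul k k', e, h.el_mul k' k]

theorem w_comm (h : S36 φ) (hw : φ w = (c3, 1)) (k : sign τ = 1) : Commute w (h.el τ) :=
  h.inj (by rw [map_mul, map_mul, hw, h.φ_el k]; rfl)

theorem w_pow3 (h : S36 φ) (hw : φ w = (c3, 1)) : w ^ 3 = 1 :=
  h.inj (by rw [map_pow, hw, map_one]; decide)

theorem w_ne (hw : φ w = (c3, 1)) : w ≠ 1 := fun e => by
  rw [e, map_one] at hw
  exact absurd hw (by decide)

theorem w_norm (h : S36 φ) (hw : φ w = (c3, 1)) (g : Y) : TT.cj g w = w ∨ TT.cj g w = w * w := by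
  have k : ∀ σ : Perm (Fin 3), σ * c3 * σ⁻¹ = c3 ∨ σ * c3 * σ⁻¹ = c3 * c3 := by decide
  refine (k (φ g).1).imp (fun e => h.inj ?_) fun e => h.inj ?_
  · rw [cj_def, map_mul, map_mul, map_inv, hw]
    exact Prod.ext e (by simp)
  · rw [cj_def, map_mul, map_mul, map_mul, map_inv, hw]
    exact Prod.ext e (by simp)

end S36

theorem sign_r1 : sign r1 = 1 := by decide
theorem sign_r2 : sign r2 = 1 := by decide
theorem sign_t0 : sign t0 = 1 := by decide
theorem sign_t4 : sign t4 = 1 := by decide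

variable {V : Type*} [AddCommGroup V] [Module (ZMod 2) V] [DistribMulAction Y V]

/-- Output of the case division, tensor case. -/
structure TD (V : Type*) [AddCommGroup V] [DistribMulAction Y V]
    {φ : Y →* Perm (Fin 3) × Perm (Fin 6)} (h : S36 φ) (w : Y) : Prop where
  fw : ∀ v : V, w • v = v → v = 0
  fD : ∀ v : V, h.el r1 • v = v → h.el r2 • v = v → v = 0
  card : Nat.card (Fx V (h.el r2)) = 16

/-- Output of the case division, reducible case: `[V, r1]` is a plane fixed by `r2` and `w`. -/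
structure RD (V : Type*) [AddCommGroup V] [DistribMulAction Y V]
    {φ : Y →* Perm (Fin 3) × Perm (Fin 6)} (h : S36 φ) (w : Y) : Prop where
  card : {v : V | ee (h.el r1) v = 0}.ncard = 4
  fw : ∀ v : V, ee (h.el r1) v = 0 → w • v = v
  f2 : ∀ v : V, ee (h.el r1) v = 0 → h.el r2 • v = v

/-- The conclusion in the tensor case. -/
structure TM (q : QuadraticForm (ZMod 2) V) (w : Y) (Φ : V4 ≃+ V) : Prop where
  sq : ∀ u, q (Φ u) = 0 ↔ B4 u u = 0
  sc : ∀ u, Φ.symm (w • Φ u) = om • u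
  semi : ∀ g : Y, Lin (fun u => Φ.symm (g • Φ u)) ∨ Semi (fun u => Φ.symm (g • Φ u))
  real : ∀ g : Y, ∃ c : F4, c ≠ 0 ∧ ∀ p, Re4 p → Re4 (c • Φ.symm (g • Φ p))
  rot : ∀ x p, Re4 x → Re4 p → x ≠ 0 → p ≠ 0 → x ≠ p → B4 x p = 0 → ∃ g : Y,
    Lin (fun u => Φ.symm (g • Φ u)) ∧ Φ.symm (g • Φ x) = p ∧ Φ.symm (g • Φ p) = x + p

end Cfsg.Agent.X6
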