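import Mathlib
import Cfsg.Agent.X6.Defs

/-!
A vector fixed by the stabiliser of `{0, 1}` in `A₆`: its images are the sums `u i + u j`.
-/

set_option autoImplicit false
set_option linter.unusedSectionVars false

namespace Cfsg.Agent.X6

open Cfsg.Agent.Spor Cfsg.Agent.Spor.TT Cfsg.Agent.Cl Cfsg.Agent.LX Subgroup QuadraticMap Module
  Equiv Equiv.Perm

variable {Y V : Type*} [Group Y] [AddCommGroup V] [Module (ZMod 2) V] [DistribMulAction Y V]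
  {φ : Y →* Perm (Fin 3) × Perm (Fin 6)} {h : S36 φ} {τ τ' : Perm (Fin 6)} {x : V}

/-- The involution `(2 3)(4 5)`. -/
def k1 : Perm (Fin 6) := swap 2 3 * swap 4 5

theorem sign_k1 : sign k1 = 1 := by decide

theorem exists_even (σ : Perm (Fin 6)) :
    ∃ τ : Perm (Fin 6), sign τ = 1 ∧ τ 0 = σ 0 ∧ τ 1 = σ 1 ∧ τ 2 = σ 2 ∧ τ 3 = σ 3 := by
  rcases Int.units_eq_one_or (sign σ) with e | e
  · exact ⟨σ, e, rfl, rfl, rfl, rfl⟩
  · exact ⟨σ * swap 4 5, by rw [map_mul, e]; decide, rfl, rfl, rfl, rfl⟩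

theorem exists_even4 {i j k l : Fin 6} (h1 : i ≠ j) (h2 : i ≠ k) (h3 : i ≠ l) (h4 : j ≠ k)
    (h5 : j ≠ l) (h6 : k ≠ l) :
    ∃ τ : Perm (Fin 6), sign τ = 1 ∧ τ 0 = i ∧ τ 1 = j ∧ τ 2 = k ∧ τ 3 = l := by
  have e : ∀ i j k l : Fin 6, i ≠ j → i ≠ k → i ≠ l → j ≠ k → j ≠ l → k ≠ l →
      let a := swap 0 i
      let b := a * swap 1 (a⁻¹ j)
      let c := b * swap 2 (b⁻¹ k)
      let d := c * swap 3 (c⁻¹ l)
      d 0 = i ∧ d 1 = j ∧ d 2 = k ∧ d 3 = l := by decide +kernel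
  obtain ⟨e0, e1, e2, e3⟩ := e i j k l h1 h2 h3 h4 h5 h6
  obtain ⟨τ, k0, k1, k2, k3, k4⟩ := exists_even _
  exact ⟨τ, k0, k1.trans e0, k2.trans e1, k3.trans e2, k4.trans e3⟩

theorem exists_even3 {i j k : Fin 6} (h1 : i ≠ j) (h2 : i ≠ k) (h4 : j ≠ k) :
    ∃ τ : Perm (Fin 6), sign τ = 1 ∧ τ 0 = i ∧ τ 1 = j ∧ τ 2 = k := by
  obtain ⟨l, k1, k2, k3⟩ : ∃ l, i ≠ l ∧ j ≠ l ∧ k ≠ l := by revert i j k; decide
  obtain ⟨τ, k0, e0, e1, e2, -⟩ := exists_even4 h1 h2 k1 h4 k2 k3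
  exact ⟨τ, k0, e0, e1, e2⟩

theorem exists_even2 {i j : Fin 6} (h1 : i ≠ j) :
    ∃ τ : Perm (Fin 6), sign τ = 1 ∧ τ 0 = i ∧ τ 1 = j := by
  obtain ⟨l, k1, k2⟩ : ∃ l, i ≠ l ∧ j ≠ l := by revert i j; decide
  obtain ⟨τ, k0, e0, e1, -⟩ := exists_even3 h1 k1 k2
  exact ⟨τ, k0, e0, e1⟩

/-- The even permutations fixing `0` and `1` are generated by `r2` and `k1`. -/
theorem fix_of_gen (h2 : h.el r2 • x = x) (hk : h.el k1 • x = x) (hs : sign τ = 1) (e0 : τ 0 = 0)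
    (e1 : τ 1 = 1) : h.el τ • x = x := by
  have e : ∀ τ : Perm (Fin 6), τ 0 = 0 → τ 1 = 1 → ∃ i j : Fin 3, ∃ n : Fin 2,
      τ = r2 ^ i.1 * k1 ^ n.1 * r2 ^ j.1 ∨ τ = r2 ^ i.1 * k1 ^ n.1 * r2 ^ j.1 * swap 4 5 := by
    decide +kernel
  obtain ⟨i, j, n, rfl | rfl⟩ := e τ e0 e1
  · have s2 := fun n : ℕ => (map_pow sign r2 n).trans (by rw [sign_r2, one_pow])
    have s1 := fun n : ℕ => (map_pow sign k1 n).trans (by rw [sign_k1, one_pow])
    rw [h.el_mul (by rw [map_mul, s2, s1, mul_one]) (s2 _), h.el_mul (s2 _) (s1 _), h.el_pow sign_r2,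
      h.el_pow sign_r2, h.el_pow sign_k1]
    exact mul_mem (mul_mem ((MulAction.stabilizer Y x).pow_mem h2 _)
      ((MulAction.stabilizer Y x).pow_mem hk _)) ((MulAction.stabilizer Y x).pow_mem h2 _)
  · simp [sign_r2, sign_k1] at hs

/-- A vector in `[V, r1]` fixed by the stabiliser of `{0, 1}` in `A₆`. -/
structure Pt (h : S36 φ) (x : V) : Prop where
  f2 : h.el r2 • x = x
  fk : h.el k1 • x = x
  ft : h.el t0 • x = x
  e1 : ee (h.el r1) x = 0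

/-- The vectors `u i`: `u 0 = 0` and `u i` is the image of `x` belonging to `{0, i}`. -/
noncomputable def uu (h : S36 φ) (x : V) (i : Fin 6) : V :=
  if k : 0 ≠ i then h.el (exists_even2 k).choose • x else 0

theorem uu_zero : uu h x 0 = 0 := dif_neg (by simp)

namespace Pt

theorem same (p : Pt h x) (hs : sign τ = 1) (hs' : sign τ' = 1) (e0 : τ 0 = τ' 0)
    (e1 : τ 1 = τ' 1) : h.el τ • x = h.el τ' • x := by
  have k := fix_of_gen p.f2 p.fk (τ := τ'⁻¹ * τ) (by simp [hs, hs']) (by simp [e0]) (by simp [e1])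
  rwa [h.el_mul (by rw [sign_inv, hs']) hs, h.el_inv hs', mul_smul, inv_smul_eq_iff] at k

theorem swap01 (p : Pt h x) (hs : sign τ = 1) (hs' : sign τ' = 1) (e0 : τ 0 = τ' 1)
    (e1 : τ 1 = τ' 0) : h.el τ • x = h.el τ' • x := by
  rw [p.same hs (τ' := τ' * t0) (by rw [map_mul, hs', sign_t0, mul_one]) e0 e1, h.el_mul hs' sign_t0,
    mul_smul, p.ft]

theorem eq_uu (p : Pt h x) (hs : sign τ = 1) (e0 : τ 0 = 0) : h.el τ • x = uu h x (τ 1) := by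
  have k : 0 ≠ τ 1 := fun e => absurd (τ.injective (e0.trans e)) (by decide)
  obtain ⟨k1, k2, k3⟩ := (exists_even2 k).choose_spec
  rw [uu, dif_pos k]
  exact p.same hs k1 (e0.trans k2.symm) k3.symm

/-- The image of `x` under an even permutation. -/
theorem form (p : Pt h x) (hs : sign τ = 1) : h.el τ • x = uu h x (τ 0) + uu h x (τ 1) := by
  by_cases e0 : τ 0 = 0
  · rw [p.eq_uu hs e0, e0, uu_zero, zero_add]
  have s : sign (τ * t0) = 1 := by rw [map_mul, hs, sign_t0, mul_one]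
  by_cases e1 : τ 1 = 0
  · rw [p.swap01 hs s rfl rfl, p.eq_uu s e1, e1, uu_zero, add_zero]
    rfl
  obtain ⟨σ, k, k0, k1, k2⟩ := exists_even3 (Ne.symm e0) (Ne.symm e1)
    fun e => absurd (τ.injective e) (by decide)
  have s1 : sign (σ * r1) = 1 := by rw [map_mul, k, sign_r1, mul_one]
  have s2 : sign (σ * r1 * r1) = 1 := by rw [map_mul, s1, sign_r1, mul_one]
  have s3 : sign (σ * r1 * r1 * t0) = 1 := by rw [map_mul, s2, sign_t0, mul_one]
  have e := congrArg (h.el σ • ·) p.e1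
  simp only [ee, smul_add, smul_zero, ← mul_smul, ← h.el_mul k sign_r1, ← mul_assoc,
    ← h.el_mul s1 sign_r1] at e
  rw [p.eq_uu k k0, k1, p.same s1 hs k1 k2, p.swap01 s2 s3 rfl rfl, p.eq_uu s3 k0, add_right_comm,
    v2_add_eq_zero] at e
  rw [← e, ← k2]
  rfl

theorem uu_one (p : Pt h x) : uu h x 1 = x := by
  have := p.eq_uu (τ := 1) (map_one _) rfl
  rwa [h.el_one, one_smul, eq_comm] at this

theorem exists_el (p : Pt h x) {i j : Fin 6} (hn : i ≠ j) :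
    ∃ σ, sign σ = 1 ∧ σ 0 = i ∧ σ 1 = j ∧ uu h x i + uu h x j = h.el σ • x := by
  obtain ⟨σ, k, k0, k1⟩ := exists_even2 hn
  exact ⟨σ, k, k0, k1, by rw [p.form k, k0, k1]⟩

/-- The action of an even permutation on the sums `u i + u j`. -/
theorem smul_uu (p : Pt h x) (hs : sign τ = 1) (i j : Fin 6) :
    h.el τ • (uu h x i + uu h x j) = uu h x (τ i) + uu h x (τ j) := by
  by_cases hn : i = j
  · rw [hn, v2_add_self, v2_add_self, smul_zero]
  obtain ⟨σ, k, rfl, rfl, e⟩ := p.exists_el hn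
  rw [e, ← mul_smul, ← h.el_mul hs k, p.form (by rw [map_mul, hs, k, mul_one])]
  rfl

/-- The sum of all `u i` is fixed by `A₆`. -/
theorem smul_sum (p : Pt h x) (hs : sign τ = 1) : h.el τ • ∑ i, uu h x i = ∑ i, uu h x i := by
  rw [← Equiv.sum_comp τ (uu h x)]
  conv_lhs => rw [Equiv.sum_comp τ (uu h x)]
  simp only [Fin.sum_univ_six]
  rw [add_assoc _ (uu h x 4), add_assoc _ (uu h x 2), smul_add, smul_add, p.smul_uu hs, p.smul_uu hs,
    p.smul_uu hs]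
  abel

/-- An element of `Y` can be corrected by an even permutation so that the image of `x` is again
fixed by the stabiliser of `{0, 1}`. -/
theorem conj (p : Pt h x) (g : Y) : ∃ σ, sign σ = 1 ∧ σ 0 = (φ g).2 0 ∧ σ 1 = (φ g).2 1 ∧
    Pt h ((h.el σ)⁻¹ • g • x) := by
  obtain ⟨σ, k, k0, k1, k2, -⟩ := exists_even (φ g).2
  refine ⟨σ, k, k0, k1, ?_⟩
  set γ := (φ g).2⁻¹ * σ with hγ
  have key : ∀ τ, sign τ = 1 →
      h.el τ • (h.el σ)⁻¹ • g • x = (h.el σ)⁻¹ • g • h.el (γ * τ * γ⁻¹) • x := fun τ hs => by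
    have e := h.cj_el hs (g⁻¹ * h.el σ)
    rw [map_mul, map_inv, h.φ_el k] at e
    rw [show γ * τ * γ⁻¹ = ((φ g)⁻¹ * (1, σ)).2 * τ * ((φ g)⁻¹ * (1, σ)).2⁻¹ from rfl, ← e, cj_def]
    simp only [← mul_smul]
    congr 1
    group
  have g0 : γ 0 = 0 := by simp [hγ, k0]
  have g1 : γ 1 = 1 := by simp [hγ, k1]
  have g2 : γ 2 = 2 := by simp [hγ, k2]
  have i0 : γ⁻¹ 0 = 0 := Perm.inv_eq_iff_eq.2 g0.symm
  have i1 : γ⁻¹ 1 = 1 := Perm.inv_eq_iff_eq.2 g1.symm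
  have sg : ∀ τ : Perm (Fin 6), sign τ = 1 → sign (γ * τ * γ⁻¹) = 1 := fun τ hs => by simp [hs]
  have fx : ∀ τ : Perm (Fin 6), sign τ = 1 → τ 0 = 0 → τ 1 = 1 → h.el (γ * τ * γ⁻¹) • x = x :=
    fun τ hs e0 e1 => fix_of_gen p.f2 p.fk (sg τ hs) (by rw [Perm.mul_apply, Perm.mul_apply, i0, e0, g0])
      (by rw [Perm.mul_apply, Perm.mul_apply, i1, e1, g1])
  refine ⟨by rw [key _ sign_r2, fx _ sign_r2 rfl rfl], by rw [key _ sign_k1, fx _ sign_k1 rfl rfl],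
    ?_, ?_⟩
  · rw [key _ sign_t0, p.same (sg _ sign_t0) sign_t0 (by
      rw [Perm.mul_apply, Perm.mul_apply, i0]; exact g1) (by
      rw [Perm.mul_apply, Perm.mul_apply, i1]; exact g0), p.ft]
  · have e : γ * r1 * γ⁻¹ = r1 := by
      have : ∀ γ : Perm (Fin 6), γ 0 = 0 → γ 1 = 1 → γ 2 = 2 → γ * r1 = r1 * γ := by decide +kernel
      rw [this γ g0 g1 g2, mul_inv_cancel_right]
    have k3 : ∀ y : V, h.el r1 • (h.el σ)⁻¹ • g • y = (h.el σ)⁻¹ • g • h.el r1 • y := fun y => by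
      have e2 := h.cj_el sign_r1 (g⁻¹ * h.el σ)
      rw [map_mul, map_inv, h.φ_el k] at e2
      conv_rhs => rw [← e, show γ * r1 * γ⁻¹ =
        ((φ g)⁻¹ * (1, σ)).2 * r1 * ((φ g)⁻¹ * (1, σ)).2⁻¹ from rfl, ← e2, cj_def]
      simp only [← mul_smul]
      congr 1
      group
    rw [ee, k3, k3, ← smul_add, ← smul_add, ← smul_add, ← smul_add]
    exact (congrArg (fun y => (h.el σ)⁻¹ • g • y) p.e1).trans (by simp)

end Pt

end Cfsg.Agent.X6
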