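import Mathlib
import Cfsg.Agent.X6.MB

/-!
Commutator spaces `[V, g]` of elements of order three on an elementary abelian `2`-group.
-/

set_option autoImplicit false
set_option linter.unusedSectionVars false

namespace Cfsg.Agent.X6

open Cfsg.Agent.Spor Cfsg.Agent.Spor.TT Cfsg.Agent.Cl Cfsg.Agent.LX Subgroup QuadraticMap Module
  Equiv Equiv.Perm

variable {Y V : Type*} [Group Y] [AddCommGroup V] [Module (ZMod 2) V] [DistribMulAction Y V]
  {q : QuadraticForm (ZMod 2) V} {g k r s t w : Y} {u v : V}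

/-- The commutator space `[V, g]` of an element of order three. -/
def Kr (V : Type*) [AddCommGroup V] [DistribMulAction Y V] (g : Y) : AddSubgroup V where
  carrier := {v | ee g v = 0}
  zero_mem' := by simp [ee]
  add_mem' {a b} hu hv := by
    have : ee g (a + b) = ee g a + ee g b := by simp only [ee, smul_add]; abel
    exact this.trans (by rw [hu, hv, add_zero])
  neg_mem' {a} hu := by
    have : ee g (-a) = -ee g a := by simp only [ee, smul_neg]; abel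
    exact this.trans (by rw [hu, neg_zero])

theorem mem_Kr : v ∈ Kr V g ↔ ee g v = 0 := Iff.rfl

theorem smul_mem_Kr (h : Commute k g) (hv : v ∈ Kr V g) : k • v ∈ Kr V g := by
  rw [mem_Kr, ee_comm h, hv, smul_zero]

theorem smul_mem_Kr_cj : k • v ∈ Kr V (cj k g) ↔ v ∈ Kr V g := by
  rw [mem_Kr, ee_cj, smul_eq_zero_iff_eq, mem_Kr]

theorem smul_mem_Fx_cj : k • v ∈ Fx V (cj k g) ↔ v ∈ Fx V g := by
  rw [mem_Fx, cj_smul, smul_left_cancel_iff, mem_Fx]

theorem add_smul_mem_Kr (hg : g ^ 3 = 1) (v : V) : v + g • v ∈ Kr V g := by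
  rw [mem_Kr, ee_add, ee_comm (Commute.refl g), smul_ee hg, v2_add_self]

theorem inv_smul3 (hg : g ^ 3 = 1) (v : V) : g⁻¹ • v = g • g • v := by
  rw [inv_smul_eq_iff, smul3 hg]

theorem ee_inv (hg : g ^ 3 = 1) (v : V) : ee g⁻¹ v = ee g v := by
  rw [ee, ee, inv_smul3 hg, inv_smul3 hg, smul3 hg, add_right_comm]

theorem Kr_inv (hg : g ^ 3 = 1) : Kr V g⁻¹ = Kr V g :=
  AddSubgroup.ext fun v => by rw [mem_Kr, mem_Kr, ee_inv hg]

theorem Fx_inv : Fx V g⁻¹ = Fx V g :=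
  AddSubgroup.ext fun v => by rw [mem_Fx, mem_Fx, inv_smul_eq_iff, eq_comm]

theorem ee_of_eq (c : Commute g r) (e : g • v = r • v) : ee g v = ee r v := by
  rw [ee, ee, e, comm_smul c, e]

theorem ee_of_eq2 (c : Commute g r) (hr : r ^ 3 = 1) (e : g • v = r • r • v) : ee g v = ee r v := by
  rw [ee, ee, e, comm_smul c, comm_smul c, e, smul3 hr, add_right_comm]

theorem ee_mem {U : AddSubgroup V} (hs : ∀ u ∈ U, g • u ∈ U) (hu : u ∈ U) : ee g u ∈ U :=
  add_mem (add_mem hu (hs u hu)) (hs _ (hs u hu))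

theorem card_sup {A B : AddSubgroup V} (h : ∀ v ∈ A, v ∈ B → v = 0) :
    Nat.card (A ⊔ B : AddSubgroup V) = Nat.card A * Nat.card B := by
  rw [← Nat.card_prod]
  refine (Nat.card_eq_of_bijective (fun p : A × B => (⟨p.1.1 + p.2.1,
    AddSubgroup.add_mem_sup p.1.2 p.2.2⟩ : (A ⊔ B : AddSubgroup V))) ⟨?_, ?_⟩).symm
  · rintro ⟨a, b⟩ ⟨a', b'⟩ e
    have e1 : a.1 + b.1 = a'.1 + b'.1 := congrArg Subtype.val e
    have e2 : a.1 + a'.1 = b.1 + b'.1 := by
      rw [← v2_add_eq_zero, add_add_add_comm, e1, v2_add_self]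
    have k := h _ (add_mem a.2 a'.2) (e2 ▸ add_mem b.2 b'.2)
    exact Prod.ext (Subtype.ext (v2_add_eq_zero.1 k)) (Subtype.ext (v2_add_eq_zero.1 (e2 ▸ k)))
  · rintro ⟨v, hv⟩
    obtain ⟨a, ha, b, hb, rfl⟩ := AddSubgroup.mem_sup.1 hv
    exact ⟨⟨⟨a, ha⟩, ⟨b, hb⟩⟩, rfl⟩

theorem card_sup_le [Finite V] (A B : AddSubgroup V) :
    Nat.card (A ⊔ B : AddSubgroup V) ≤ Nat.card A * Nat.card B := by
  rw [← Nat.card_prod]
  refine Nat.card_le_card_of_surjective (fun p : A × B => (⟨p.1.1 + p.2.1,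
    AddSubgroup.add_mem_sup p.1.2 p.2.2⟩ : (A ⊔ B : AddSubgroup V))) ?_
  rintro ⟨v, hv⟩
  obtain ⟨a, ha, b, hb, rfl⟩ := AddSubgroup.mem_sup.1 hv
  exact ⟨⟨⟨a, ha⟩, ⟨b, hb⟩⟩, rfl⟩

theorem card_sup_of {A B : AddSubgroup V} (hA : A ≤ Kr V g) (hB : B ≤ Fx V g) :
    Nat.card (A ⊔ B : AddSubgroup V) = Nat.card A * Nat.card B :=
  card_sup fun _ h1 h2 => eq_zero_of_ee (hA h1) (hB h2)

theorem card_sup_of' {A B : AddSubgroup V} (hA : A ≤ Fx V g) (hB : B ≤ Kr V g) :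
    Nat.card (A ⊔ B : AddSubgroup V) = Nat.card A * Nat.card B :=
  card_sup fun _ h1 h2 => eq_zero_of_ee (hB h2) (hA h1)

theorem card_Fx_Kr (hg : g ^ 3 = 1) : Nat.card (Fx V g) * Nat.card (Kr V g) = Nat.card V := by
  rw [← card_sup_of' le_rfl le_rfl, show Fx V g ⊔ Kr V g = ⊤ from eq_top_iff.2 fun v _ => by
    rw [← v2_add_add (ee g v) v, add_comm _ v]
    exact AddSubgroup.add_mem_sup (smul_ee hg v) (ee_add_ee hg v), AddSubgroup.card_top]

theorem card_smul {A B : AddSubgroup V} (k : Y) (h : ∀ v, k • v ∈ B ↔ v ∈ A) :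
    Nat.card A = Nat.card B :=
  Nat.card_congr ((MulAction.toPerm k).subtypeEquiv fun v => (h v).symm)

theorem card_mod3 [Finite V] {U : AddSubgroup V} (hg : g ^ 3 = 1) (hs : ∀ u ∈ U, g • u ∈ U)
    (he : U ≤ Kr V g) : Nat.card U % 3 = 1 := by
  classical
  have : Fact (Nat.Prime 3) := ⟨Nat.prime_three⟩
  have := Fintype.ofFinite U
  let f : Function.End U := fun u => ⟨g • u.1, hs _ u.2⟩
  have k := Equiv.Perm.card_fixedPoints_modEq (f := f) (p := 3) (n := 1)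
    (funext fun u => Subtype.ext (smul3 hg u.1))
  have e : Fintype.card f.fixedPoints = 1 := Fintype.card_eq_one_iff.2 ⟨⟨0, Subtype.ext (smul_zero g)⟩,
    fun y => Subtype.ext (Subtype.ext (eq_zero_of_ee (he y.1.2) (congrArg Subtype.val y.2)))⟩
  rw [e] at k
  rw [Nat.card_eq_fintype_card]
  exact k

theorem four_le_card [Finite V] {U : AddSubgroup V} (hg : g ^ 3 = 1) (hs : ∀ u ∈ U, g • u ∈ U)
    (he : U ≤ Kr V g) (hu : u ∈ U) (h0 : u ≠ 0) : 4 ≤ Nat.card U := by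
  have k := card_mod3 hg hs he
  have : Nontrivial U := ⟨⟨⟨u, hu⟩, 0, fun e => h0 (congrArg Subtype.val e)⟩⟩
  have := Finite.one_lt_card (α := U)
  omega

theorem mv_fin (m : MV Y q) : Finite V := Nat.finite_of_card_ne_zero (by rw [m.card]; norm_num)

/-- The orthogonal complement of `[V, g]` is fixed by `g`. -/
theorem fix_of_perp (m : MV Y q) (hg : g ^ 3 = 1) (hp : ∀ v ∈ Kr V g, polar q u v = 0) : g • u = u := by
  refine (v2_add_eq_zero.1 (m.nd _ fun v => ?_)).symm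
  have k := hp _ (add_smul_mem_Kr hg (g • g • v))
  rw [smul3 hg, polar_add_right, ← m.pol g u (g • g • v), smul3 hg] at k
  rw [polar_add_left, add_comm, k]

theorem fix_symm (m : MV Y q) (hg : g ^ 3 = 1) (h : Kr V g ≤ Fx V k) : Kr V k ≤ Fx V g :=
  fun _ hu => fix_of_perp m hg fun _ hv => by rw [polar_comm]; exact m.perp (h hv) hu

theorem comm_of_fix (m : MV Y q) (hg : g ^ 3 = 1) (hk : k ^ 3 = 1) (h : Kr V g ≤ Fx V k) :
    Commute g k := by
  have e := m.faith ((g * k)⁻¹ * (k * g)) fun v => by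
    have h1 : k • (v + g • v) = v + g • v := h (add_smul_mem_Kr hg v)
    have h2 : g • (v + k • v) = v + k • v := fix_symm m hg h (add_smul_mem_Kr hk v)
    rw [smul_add] at h1 h2
    rw [mul_smul, inv_smul_eq_iff, mul_smul, mul_smul, ← v2_add_add (k • v) (k • g • v), h1,
      ← v2_add_add (g • v) (g • k • v), h2]
    abel
  exact inv_mul_eq_one.1 e

theorem q_Kr (m : MV Y q) (hg : g ^ 3 = 1) (hc : Nat.card (Kr V g) = 4) (hu : u ∈ Kr V g)
    (h0 : u ≠ 0) : q u = 1 :=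
  m.q_four hc (fun _ => smul_mem_Kr (Commute.refl g)) hu h0 hu fun hp v => by
    rw [← v2_add_add (ee g v) v, add_comm _ v, polar_add_right, hp _ (ee_add_ee hg v), add_zero,
      polar_comm]
    exact m.perp (smul_ee hg v) hu

/-- Splitting `[V, r]` into the eigenspaces of `w`. -/
theorem split3 (c : Commute w r) (hv : ee r v = 0) :
    v = ee w v + ee (w * r) v + ee (w * r * r) v := by
  simp only [ee, mul_smul, ← comm_smul c, smul_smul_of_ee hv, smul_add]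
  simp only [ac_eq]
  refine c2 ?_
  match_scalars <;> decide

/-- If `w` moves a vector of `C_V(s) ∩ [V, r]` then this space has at least 16 elements. -/
theorem lemX [Finite V] (hr : r ^ 3 = 1) (hw : w ^ 3 = 1) (c1 : Commute r s) (c2 : Commute w r)
    (c3 : Commute w s) (c4 : Commute t w) (e1 : cj t r = r⁻¹) (e2 : cj t s = s⁻¹)
    (hu : u ∈ Fx V s ⊓ Kr V r) (hn : w • u ≠ u) :
    Nat.card (Fx V s ⊓ Kr V r ⊓ Fx V w : AddSubgroup V) * 16 ≤
      Nat.card (Fx V s ⊓ Kr V r : AddSubgroup V) := by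
  set W := Fx V s ⊓ Kr V r
  have cr : Commute (w * r) r := c2.mul_left (Commute.refl r)
  have p1 : (w * r) ^ 3 = 1 := by rw [c2.mul_pow, hw, hr, one_mul]
  have p2 : (w * r * r) ^ 3 = 1 := by rw [cr.mul_pow, p1, hr, one_mul]
  have sW : ∀ g, Commute g r → Commute g s → ∀ v ∈ W, g • v ∈ W := fun g h1 h2 v hv =>
    ⟨smul_mem_Fx h2 hv.1, smul_mem_Kr h1 hv.2⟩
  have tW : ∀ v, t • v ∈ W ↔ v ∈ W := fun v =>
    and_congr (by change _ ∈ Fx V s ↔ _ ∈ Fx V s; conv_lhs => rw [← Fx_inv, ← e2, smul_mem_Fx_cj])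
      (by change _ ∈ Kr V r ↔ _ ∈ Kr V r; conv_lhs => rw [← Kr_inv hr, ← e1, smul_mem_Kr_cj])
  have f1 : ∀ v : V, v ∈ Fx V (w * r) ↔ w • v = r • r • v := fun v => by
    rw [mem_Fx, mul_smul, comm_smul c2, ← inv_smul3 hr, eq_inv_smul_iff]
  have f2 : ∀ v : V, v ∈ Fx V (w * r * r) ↔ w • v = r • v := fun v => by
    rw [mem_Fx, mul_smul, mul_smul, comm_smul c2, comm_smul c2, ← inv_smul3 hr, inv_smul_eq_iff]
  have tL : ∀ v, t • v ∈ W ⊓ Fx V (w * r * r) ↔ v ∈ W ⊓ Fx V (w * r) := fun v => by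
    refine and_congr (tW v) ?_
    change _ ∈ Fx V _ ↔ _ ∈ Fx V _
    rw [← smul_mem_Fx_cj (k := t) (g := w * r), cj_mul,
      e1, cj_of_commute c4, f2, mem_Fx, mul_smul, comm_smul c2.inv_right, inv_smul_eq_iff]
  obtain ⟨x, hx, x0⟩ : ∃ x ∈ W ⊓ Fx V (w * r), x ≠ 0 := by
    by_contra n
    push Not at n
    have k1 := n _ ⟨ee_mem (sW _ cr (c3.mul_left c1)) hu, smul_ee p1 u⟩
    have k2 : ee (w * r * r) u ∈ W ⊓ Fx V (w * r * r) :=
      ⟨ee_mem (sW _ (cr.mul_left (Commute.refl r)) ((c3.mul_left c1).mul_left c1)) hu, smul_ee p2 u⟩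
    rw [← smul_inv_smul t (ee (w * r * r) u), tL] at k2
    have k3 := (smul_eq_zero_iff_eq _).1 (n _ k2)
    have k4 := split3 c2 hu.2
    rw [k1, k3, add_zero, add_zero] at k4
    exact hn (by rw [k4, smul_ee hw])
  have l1 := four_le_card (U := W ⊓ Fx V (w * r)) hr
    (fun v hv => ⟨sW r (Commute.refl r) c1 v hv.1, smul_mem_Fx cr.symm hv.2⟩) (fun v hv => hv.1.2) hx x0
  have l2 := card_smul t tL
  have a1 := card_sup (A := W ⊓ Fx V (w * r)) (B := W ⊓ Fx V (w * r * r)) fun v h1 h2 =>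
    eq_zero_of_ee h1.1.2 (smul_left_cancel r (((f1 v).1 h1.2).symm.trans ((f2 v).1 h2.2)))
  have a2 := card_sup_of' (g := w) (A := W ⊓ Fx V w)
    (B := W ⊓ Fx V (w * r) ⊔ W ⊓ Fx V (w * r * r)) inf_le_right (sup_le
      (fun v hv => (ee_of_eq2 c2 hr ((f1 v).1 hv.2)).trans hv.1.2)
      fun v hv => (ee_of_eq c2 ((f2 v).1 hv.2)).trans hv.1.2)
  have a3 := AddSubgroup.card_le_of_le (sup_le (inf_le_left (a := W) (b := Fx V w))
    (sup_le (inf_le_left (b := Fx V (w * r))) (inf_le_left (b := Fx V (w * r * r)))))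
  rw [a2, a1, ← l2] at a3
  exact le_trans (Nat.mul_le_mul_left _ (Nat.mul_le_mul l1 l1)) a3

end Cfsg.Agent.X6
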