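import Mathlib
import Cfsg.Agent.X6.MAa
import Cfsg.Agent.Sym.Present

/-!
The case division for the module of order `2^8`.
-/

set_option autoImplicit false
set_option linter.unusedSectionVars false

namespace Cfsg.Agent.X6

open Cfsg.Agent.Spor Cfsg.Agent.Spor.TT Cfsg.Agent.Cl Cfsg.Agent.LX Subgroup QuadraticMap Module
  Equiv Equiv.Perm

variable {Y V : Type*} [Group Y] [AddCommGroup V] [Module (ZMod 2) V] [DistribMulAction Y V]
  {q : QuadraticForm (ZMod 2) V} {φ : Y →* Perm (Fin 3) × Perm (Fin 6)} {w : Y}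

theorem exists_out : ∃ θ : Perm (Fin 6) →* Perm (Fin 6), Function.Bijective θ ∧
    (∀ x, sign (θ x) = sign x) ∧ θ (r1 * r2) = r2 ∧ θ (r1 * r2⁻¹) = r1 := by
  let t : Fin 5 → Perm (Fin 6) := ![swap 0 3 * swap 1 2 * swap 4 5, swap 0 1 * swap 2 4 * swap 3 5,
    swap 0 2 * swap 1 3 * swap 4 5, swap 0 3 * swap 1 5 * swap 2 4, swap 0 1 * swap 2 3 * swap 4 5]
  let s : Fin 5 → Perm (Fin 6) := fun i => swap i.castSucc i.succ
  obtain ⟨θ, hθ⟩ := Sym.exists_hom_of_coxeter 5 t (by decide +kernel) (by decide +kernel)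
    (by unfold Commute SemiconjBy; decide +kernel)
  have w : ∀ (l : List (Fin 5)) x y, x = (l.map s).prod → y = (l.map t).prod → θ x = y := by
    rintro l _ _ rfl rfl
    rw [map_list_prod, List.map_map]
    exact congrArg (fun f => (l.map f).prod) (funext hθ)
  have k1 : Function.Involutive θ := fun x => DFunLike.congr_fun (MonoidHom.eq_of_eqOn_dense
    (f := θ.comp θ) (g := MonoidHom.id _) (Sym.closure_swap_castSucc_succ 5) (by
      rintro _ ⟨i, rfl⟩
      change θ (θ _) = _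
      rw [hθ]
      refine w (![[0, 1, 0, 2, 1, 0, 4], [0, 3, 2, 4, 3], [1, 0, 2, 1, 4],
        [1, 2, 1, 0, 3, 2, 1, 4, 3, 2, 1], [0, 2, 4]] i) _ _ ?_ ?_ <;> revert i <;> decide +kernel)) x
  have k2 : ∀ x, sign (θ x) = sign x := fun x => DFunLike.congr_fun
    (MonoidHom.eq_of_eqOn_dense (f := Perm.sign.comp θ) (g := Perm.sign)
      (Sym.closure_swap_castSucc_succ 5) (by
      rintro _ ⟨i, rfl⟩
      change Perm.sign (θ _) = _
      rw [hθ]
      revert i
      decide +kernel)) x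
  let g : Perm (Fin 6) := swap 1 5 * swap 1 3
  refine ⟨(MulAut.conj g).toMonoidHom.comp θ, (MulAut.conj g).bijective.comp k1.bijective,
    fun x => ?_, ?_, ?_⟩
  · change sign (g * θ x * g⁻¹) = _
    rw [map_mul, map_mul, sign_inv, k2, mul_right_comm, Int.units_mul_self, one_mul]
  · change g * θ _ * g⁻¹ = _
    rw [w [0, 1, 3, 4] _ _ (by decide +kernel) rfl]
    decide +kernel
  · change g * θ _ * g⁻¹ = _
    rw [w [0, 1, 4, 3] _ _ (by decide +kernel) rfl]
    decide +kernel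

/-- The twist by the outer automorphism. -/
theorem S36.twist (h : S36 φ) (hw : φ w = (c3, 1)) :
    ∃ (φ' : Y →* Perm (Fin 3) × Perm (Fin 6)) (h' : S36 φ'), φ' w = (c3, 1) ∧
      h'.el r2 = h.el r1 * h.el r2 ∧ h'.el r1 = h.el r1 * (h.el r2)⁻¹ := by
  obtain ⟨θ, k1, k2, k3, k4⟩ := exists_out
  let φ' := ((MonoidHom.id _).prodMap θ).comp φ
  have e : ∀ y, φ' y = ((φ y).1, θ (φ y).2) := fun _ => rfl
  have h' : S36 φ' := ⟨fun x y k => h.inj (by
      rw [e, e, Prod.mk.injEq] at k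
      exact Prod.ext k.1 (k1.1 k.2)), fun σ τ hσ hτ => by
    obtain ⟨τ, rfl⟩ := k1.2 τ
    obtain ⟨y, hy⟩ := h.sur σ τ hσ (k2 τ ▸ hτ)
    exact ⟨y, by rw [e, hy]⟩⟩
  have s : sign r2⁻¹ = 1 := by rw [sign_inv, sign_r2]
  refine ⟨φ', h', by rw [e, hw, map_one], h'.inj ?_, h'.inj ?_⟩
  · rw [h'.φ_el sign_r2, ← h.el_mul sign_r1 sign_r2, e, h.φ_el (by decide), k3]
  · rw [h'.φ_el sign_r1, ← h.el_inv sign_r2, ← h.el_mul sign_r1 s, e, h.φ_el (by decide), k4]

namespace S36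

theorem pow3 (h : S36 φ) {τ : Perm (Fin 6)} (k : sign τ = 1) (e : τ ^ 3 = 1) : h.el τ ^ 3 = 1 := by
  rw [← h.el_pow k, e, h.el_one]

theorem a3 (h : S36 φ) : h.el r1 ^ 3 = 1 := h.pow3 sign_r1 (by decide)

theorem b3 (h : S36 φ) : h.el r2 ^ 3 = 1 := h.pow3 sign_r2 (by decide)

theorem cab (h : S36 φ) : Commute (h.el r1) (h.el r2) := h.el_comm sign_r1 sign_r2 (by decide)

theorem ta (h : S36 φ) : cj (h.el t0) (h.el r1) = (h.el r1)⁻¹ := by
  rw [h.cj_el_el sign_r1 sign_t0, ← h.el_inv sign_r1]; exact congrArg _ (by decide)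

theorem tb (h : S36 φ) : cj (h.el t0) (h.el r2) = (h.el r2)⁻¹ := by
  rw [h.cj_el_el sign_r2 sign_t0, ← h.el_inv sign_r2]; exact congrArg _ (by decide)

theorem θa (h : S36 φ) : cj (h.el t4) (h.el r1) = h.el r2 := by
  rw [h.cj_el_el sign_r1 sign_t4]; exact congrArg _ (by decide)

theorem θb (h : S36 φ) : cj (h.el t4) (h.el r2) = (h.el r1)⁻¹ := by
  rw [h.cj_el_el sign_r2 sign_t4, ← h.el_inv sign_r1]; exact congrArg _ (by decide)

theorem a_ne (h : S36 φ) : h.el r1 ≠ 1 := fun e =>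
  absurd (h.el_inj sign_r1 (map_one _) (e.trans h.el_one.symm)) (by decide)

end S36

/-- Decomposition of a vector under an elementary abelian group of order nine. -/
theorem split5 {a b : Y} (hb : b ^ 3 = 1) (c : Commute a b) (v : V) :
    v = ee a v + ee b v + ee (a * b) v + ee (a * b⁻¹) v + ee a (ee b v) := by
  simp only [ee, mul_smul, inv_smul3 hb, ← comm_smul c, smul_add, smul3 hb]
  simp only [ac_eq]
  refine c2 ?_
  match_scalars <;> decide

theorem fix_mul_inv {a b : Y} (c : Commute a b) {v : V} : v ∈ Fx V (a * b⁻¹) ↔ a • v = b • v := by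
  rw [mem_Fx, c.inv_right.eq, mul_smul, inv_smul_eq_iff]

theorem fix_mul {a b : Y} (ha : a ^ 3 = 1) {v : V} : v ∈ Fx V (a * b) ↔ b • v = a • a • v := by
  rw [mem_Fx, mul_smul, ← inv_smul3 ha, eq_inv_smul_iff]

theorem θ_mem1 (h : S36 φ) (v : V) : h.el t4 • v ∈ Fx V (h.el r1) ⊓ Kr V (h.el r2) ↔
    v ∈ Fx V (h.el r2) ⊓ Kr V (h.el r1) :=
  and_congr (by change _ ∈ Fx V _ ↔ _ ∈ Fx V _; conv_lhs => rw [← Fx_inv, ← h.θb, smul_mem_Fx_cj])
    (by change _ ∈ Kr V _ ↔ _ ∈ Kr V _; conv_lhs => rw [← h.θa, smul_mem_Kr_cj])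

theorem θ_mem2 (h : S36 φ) (v : V) : h.el t4 • v ∈ Fx V (h.el r1 * (h.el r2)⁻¹) ↔
    v ∈ Fx V (h.el r1 * h.el r2) := by
  rw [← Fx_inv, mul_inv_rev, inv_inv, ← h.θb, ← smul_mem_Fx_cj (k := h.el t4) (g := h.el r1 * h.el r2),
    cj_mul, h.θa]

theorem θ_mem3 (h : S36 φ) (v : V) : h.el t4 • v ∈ Fx V (h.el r1 * (h.el r2)⁻¹) ⊓ Kr V (h.el r2) ↔
    v ∈ Fx V (h.el r1 * h.el r2) ⊓ Kr V (h.el r1) :=
  and_congr (θ_mem2 h v) (by change _ ∈ Kr V _ ↔ _ ∈ Kr V _; conv_lhs => rw [← h.θa, smul_mem_Kr_cj])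

theorem core (m : MV Y q) (h : S36 φ) (hw : φ w = (c3, 1)) {v : V} (h2 : h.el r2 • v = v)
    (h1 : h.el r1 • v ≠ v) : TD V h w ∨ RD V h w := by
  have := mv_fin m
  have cθ := h.w_comm hw sign_t4
  have ca := h.w_comm hw sign_r1
  have cb := h.w_comm hw sign_r2
  have ha := h.a3
  have hb := h.b3
  have c := h.cab
  have θ1 := θ_mem1 (V := V) h
  have θ3 := θ_mem3 (V := V) h
  have ta := h.ta
  have tb := h.tb
  have cτ := (h.w_comm hw sign_t0).symm
  have w3 := h.w_pow3 hw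
  have wn := S36.w_ne hw
  suffices H : (∀ v : V, w • v = v → v = 0) ∧ (∀ v : V, h.el r1 • v = v → h.el r2 • v = v → v = 0) ∧
      Nat.card (Fx V (h.el r2)) = 16 ∨ Nat.card (Kr V (h.el r1)) = 4 ∧
      (Kr V (h.el r1) ≤ Fx V w) ∧ Kr V (h.el r1) ≤ Fx V (h.el r2) from
    H.imp (fun k => ⟨k.1, k.2.1, k.2.2⟩) fun k => ⟨k.1, k.2.1, k.2.2⟩
  generalize h.el r1 = a at *
  generalize h.el r2 = b at *
  generalize h.el t4 = θ at *
  generalize h.el t0 = τ at *
  set U := Fx V b ⊓ Kr V a with hU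
  set U' := Fx V a ⊓ Kr V b with hU'
  have eU := card_smul θ θ1
  have l4 : 4 ≤ Nat.card U := four_le_card (u := v + a • v) ha
    (fun u hu => ⟨smul_mem_Fx c hu.1, smul_mem_Kr (Commute.refl a) hu.2⟩) inf_le_right
    ⟨add_mem h2 (smul_mem_Fx c h2), add_smul_mem_Kr ha v⟩ fun e => h1 (v2_add_eq_zero.1 e).symm
  have m3 : Nat.card U % 3 = 1 := card_mod3 ha
    (fun u hu => ⟨smul_mem_Fx c hu.1, smul_mem_Kr (Commute.refl a) hu.2⟩) inf_le_right
  have s1 : Nat.card (U ⊔ U' : AddSubgroup V) = Nat.card U * Nat.card U := by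
    rw [card_sup_of (g := a) inf_le_right inf_le_left, ← eU]
  have d1 : Nat.card U * Nat.card U ∣ 256 := by
    rw [← s1, ← m.card]; exact AddSubgroup.card_addSubgroup_dvd_card _
  have l16 : Nat.card U ≤ 16 := by
    by_contra n
    have := Nat.le_of_dvd (by norm_num) d1
    nlinarith
  have top : ∀ A : AddSubgroup V, 256 ≤ Nat.card A → ∀ v, v ∈ A := fun A hA v =>
    AddSubgroup.eq_of_le_of_card_ge (le_top (a := A)) (by rwa [AddSubgroup.card_top, m.card]) ▸
      AddSubgroup.mem_top v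
  have tr : ∀ {A B : AddSubgroup V}, (∀ v, θ • v ∈ B ↔ v ∈ A) → A ≤ Fx V w → B ≤ Fx V w :=
    fun k hA v hv => by
      rw [← smul_inv_smul θ v] at hv ⊢
      exact smul_mem_Fx cθ.symm (hA ((k _).1 hv))
  by_cases hm : U ≤ Fx V w
  · right
    have e4 : Nat.card U = 4 := by
      by_contra n
      have e : Nat.card U = 16 := by
        generalize Nat.card U = n' at *
        interval_cases n' <;> omega
      exact wn (m.faith w fun v => sup_le hm (tr θ1 hm) (top _ (by rw [s1, e]) v))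
    have p1 : (a * b) ^ 3 = 1 := by rw [c.mul_pow, ha, hb, one_mul]
    have p2 : (a * b⁻¹) ^ 3 = 1 := by rw [c.inv_right.mul_pow, ha, inv_pow, hb, inv_one, one_mul]
    have ca1 : Commute a (a * b) := (Commute.refl a).mul_right c
    have ca2 : Commute a (a * b⁻¹) := (Commute.refl a).mul_right c.inv_right
    have z : ∀ x ∈ Fx V (a * b) ⊓ Kr V a, x = 0 := fun x hx => by
      by_contra x0
      set W := Fx V (a * b) ⊓ Kr V a with hW
      set W' := Fx V (a * b⁻¹) ⊓ Kr V b with hW'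
      have eW := card_smul θ θ3
      have k4 : 4 ≤ Nat.card W := four_le_card ha
        (fun u hu => ⟨smul_mem_Fx ca1 hu.1, smul_mem_Kr (Commute.refl a) hu.2⟩) inf_le_right hx x0
      have s2 : Nat.card (U ⊔ U' ⊔ W ⊔ W' : AddSubgroup V) = 16 * Nat.card W * Nat.card W := by
        rw [card_sup_of (g := a * b⁻¹) _ inf_le_left, card_sup_of (g := a * b) _ inf_le_left, s1, e4,
          ← eW]
        · refine sup_le (fun u hu => (ee_of_eq ca1.symm ?_).trans hu.2)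
            fun u hu => (ee_of_eq (c.mul_left (Commute.refl b)) ?_).trans hu.2
          · rw [mul_smul, hu.1]
          · rw [c.eq, mul_smul, hu.1]
        · refine sup_le (sup_le (fun u hu => (ee_of_eq ca2.symm ?_).trans hu.2)
            fun u hu => (ee_of_eq2 (c.mul_left (Commute.refl b).inv_left) hb ?_).trans hu.2)
            fun u hu => (ee_of_eq2 ca2.symm ha ?_).trans hu.2
          · rw [mul_smul, inv_smul_eq_iff.2 (Eq.symm hu.1)]
          · rw [c.inv_right.eq, mul_smul, hu.1, inv_smul3 hb]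
          · rw [c.inv_right.eq, mul_smul, inv_smul_eq_iff, ← comm_smul c, ← comm_smul c,
              (fix_mul ha).1 hu.1, smul3 ha]
      have l : 16 * Nat.card W * Nat.card W ≤ 256 := by
        rw [← s2, ← m.card]; exact AddSubgroup.card_le_card_addGroup _
      have hm2 : W ≤ Fx V w := fun u hu => by
        by_contra n
        have k := lemX ha w3 ca1 ca (ca.mul_right cb) cτ ta (by
          rw [cj_mul, ta, tb, c.eq, mul_inv_rev]) hu n
        have := Nat.card_pos (α := (W ⊓ Fx V w : AddSubgroup V))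
        nlinarith
      exact wn (m.faith w fun v => sup_le (sup_le (sup_le hm (tr θ1 hm)) hm2) (tr θ3 hm2)
        (top _ (by rw [s2]; nlinarith) v))
    have le : Kr V a ≤ Fx V b := fun v hv => by
      have e := split5 hb c v
      have k1 := z _ ⟨smul_ee p1 v, ee_mem (fun _ => smul_mem_Kr ca1.symm) hv⟩
      have k2 : ee (a * b⁻¹) v ∈ Fx V (a * b⁻¹) ⊓ Kr V b := ⟨smul_ee p2 v,
        (ee_of_eq c.symm ((fix_mul_inv c).1 (smul_ee p2 v)).symm).trans
          (ee_mem (fun _ => smul_mem_Kr ca2.symm) hv)⟩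
      rw [← smul_inv_smul θ (ee (a * b⁻¹) v), θ3] at k2
      have k3 : ee a (ee b v) = 0 := ee_mem (fun _ => smul_mem_Kr c.symm) hv
      rw [k1, (smul_eq_zero_iff_eq _).1 (z _ k2), k3, hv, zero_add, add_zero, add_zero, add_zero] at e
      rw [e]
      exact smul_ee hb v
    have e : U = Kr V a := inf_eq_right.2 le
    exact ⟨e ▸ e4, e ▸ hm, le⟩
  · left
    obtain ⟨u, hu, n⟩ := SetLike.not_le_iff_exists.1 hm
    have k := lemX ha w3 c ca cb cτ ta tb hu n
    have p := Nat.card_pos (α := (U ⊓ Fx V w : AddSubgroup V))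
    have e : Nat.card U = 16 := by nlinarith
    have z : ∀ x ∈ U, w • x = x → x = 0 := fun x hx e' => by
      have : U ⊓ Fx V w = ⊥ := AddSubgroup.eq_bot_of_card_le _ (by nlinarith)
      exact AddSubgroup.mem_bot.1 (this ▸ ⟨hx, e'⟩)
    have sp := fun v => AddSubgroup.mem_sup.1 (top _ (by rw [s1, e]) v)
    have le : Fx V b ≤ Kr V a := fun v hv => by
      obtain ⟨x, hx, y, hy, rfl⟩ := sp v
      rw [mem_Fx, smul_add, hx.1, add_right_inj] at hv
      rw [eq_zero_of_ee hy.2 hv, add_zero]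
      exact hx.2
    refine ⟨fun v hv => ?_, fun v k1 k2 => eq_zero_of_ee (le k2) k1, inf_eq_left.2 le ▸ e⟩
    obtain ⟨x, hx, y, hy, rfl⟩ := sp v
    have k1 := congrArg (ee a) hv
    rw [ee_comm ca, ee_add, hx.2, zero_add, ee_fix hy.1] at k1
    rw [smul_add, k1, add_left_inj] at hv
    rw [← smul_inv_smul θ y, θ1] at hy
    rw [z x hx hv, zero_add]
    exact (smul_eq_zero_iff_eq _).1 (z _ hy (smul_mem_Fx cθ.symm.inv_left k1))

/-- The case division (after a twist by the outer automorphism of `S₆`). -/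
theorem dich (m : MV Y q) (h : S36 φ) (hw : φ w = (c3, 1)) :
    ∃ (φ' : Y →* Perm (Fin 3) × Perm (Fin 6)) (h' : S36 φ'), φ' w = (c3, 1) ∧
      (TD V h' w ∨ RD V h' w) := by
  by_cases h1 : ∃ v : V, h.el r2 • v = v ∧ h.el r1 • v ≠ v
  · obtain ⟨v, k1, k2⟩ := h1
    exact ⟨φ, h, hw, core m h hw k1 k2⟩
  push Not at h1
  have c := h.cab
  by_cases h2 : ∃ v : V, (h.el r1 * h.el r2) • v = v ∧ h.el r1 • v ≠ v
  · obtain ⟨v, k1, k2⟩ := h2
    obtain ⟨φ', h', k3, k4, k5⟩ := h.twist hw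
    refine ⟨φ', h', k3, core m h' k3 (v := v) (k4 ▸ k1) fun e => k2 ?_⟩
    rw [k5] at e
    exact smul_left_cancel _ (((fix_mul h.a3).1 k1).symm.trans ((fix_mul_inv c).1 e).symm)
  push Not at h2
  refine absurd (m.faith _ fun v => ?_) h.a_ne
  have p1 : (h.el r1 * h.el r2) ^ 3 = 1 := by rw [c.mul_pow, h.a3, h.b3, one_mul]
  have p2 : (h.el r1 * (h.el r2)⁻¹) ^ 3 = 1 := by
    rw [c.inv_right.mul_pow, h.a3, inv_pow, h.b3, inv_one, one_mul]
  rw [split5 h.b3 c v]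
  refine (add_mem (add_mem (add_mem (add_mem (smul_ee h.a3 v) (h1 _ (smul_ee h.b3 v)))
    (h2 _ (smul_ee p1 v))) (h1 _ ?_)) (smul_ee h.a3 _) : _ ∈ Fx V (h.el r1))
  have k : ee (h.el r1 * (h.el r2)⁻¹) v ∈ Fx V _ := smul_ee p2 v
  generalize ee (h.el r1 * (h.el r2)⁻¹) v = y at k ⊢
  rw [← smul_inv_smul (h.el t4) y] at k ⊢
  have k2 := (smul_mem_Fx_cj (k := h.el t4)).2 (h2 _ ((θ_mem2 h _).1 k))
  rwa [h.θa] at k2

end Cfsg.Agent.X6
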