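import Mathlib
import Cfsg.Agent.X6.MA

/-!
The reducible case for the module of order `2^8`.
-/

set_option autoImplicit false
set_option linter.unusedSectionVars false

namespace Cfsg.Agent.X6

open Cfsg.Agent.Spor Cfsg.Agent.Spor.TT Cfsg.Agent.Cl Cfsg.Agent.LX Subgroup QuadraticMap Module
  Equiv Equiv.Perm

variable {Y V : Type*} [Group Y] [AddCommGroup V] [Module (ZMod 2) V] [DistribMulAction Y V]
  {q : QuadraticForm (ZMod 2) V} {φ : Y →* Perm (Fin 3) × Perm (Fin 6)} {w : Y} {h : S36 φ}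
  {σ s t : Perm (Fin 6)}

/-- The cycle `i ↦ j ↦ k`. -/
def cy (i j k : Fin 6) : Perm (Fin 6) := swap i k * swap i j

theorem tr_Kr (h : S36 φ) (k : sign σ = 1) (k1 : sign s = 1) (e : σ * s * σ⁻¹ = t) (v : V) :
    h.el σ • v ∈ Kr V (h.el t) ↔ v ∈ Kr V (h.el s) := by
  rw [← e, ← h.cj_el_el k1 k, smul_mem_Kr_cj]

theorem tr_Kr' (h : S36 φ) (k : sign σ = 1) (k1 : sign s = 1) (e3 : s ^ 3 = 1)
    (e : σ * s⁻¹ * σ⁻¹ = t) (v : V) : h.el σ • v ∈ Kr V (h.el t) ↔ v ∈ Kr V (h.el s) := by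
  rw [tr_Kr h k (by rw [sign_inv, k1]) e, h.el_inv k1, Kr_inv (h.pow3 k1 e3)]

theorem tr_le (h : S36 φ) (k : sign σ = 1) (k1 : sign s = 1) (k2 : sign t = 1) {s' t' : Perm (Fin 6)}
    (e : σ * s * σ⁻¹ = s') (e' : σ * t * σ⁻¹ = t') (l : Kr V (h.el s) ≤ Fx V (h.el t)) :
    Kr V (h.el s') ≤ Fx V (h.el t') := fun v hv => by
  rw [← smul_inv_smul (h.el σ) v] at hv ⊢
  rw [← e', ← h.cj_el_el k2 k, smul_mem_Fx_cj]
  exact l ((tr_Kr h k k1 e _).1 hv)

theorem smul_mem_sup {g : Y} (hg : g ^ 3 = 1) {A : AddSubgroup V} {v : V} (hv : v ∈ A) :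
    g • v ∈ A ⊔ Kr V g := by
  rw [← v2_add_add v (g • v)]
  exact AddSubgroup.add_mem_sup hv (add_smul_mem_Kr hg v)

namespace RD

theorem cardA (t : RD V h w) : Nat.card (Kr V (h.el r1)) = 4 := t.card

theorem card_cj (t : RD V h w) (k : sign σ = 1) (e : σ * r1 * σ⁻¹ = s) :
    Nat.card (Kr V (h.el s)) = 4 := (card_smul _ (tr_Kr h k sign_r1 e)).symm.trans t.cardA

theorem meet (t : RD V h w) (m : MV Y q) :
    ∃ x ∈ Kr V (h.el r1), x ∈ Kr V (h.el (cy 0 1 3)) ∧ x ≠ 0 := by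
  have := mv_fin m
  by_contra n
  push Not at n
  have c1 := t.card_cj (σ := cy 2 3 4) (s := cy 0 1 3) (by decide) (by decide)
  have c2 := t.card_cj (σ := swap 0 3 * swap 1 4) (s := cy 2 3 4) (by decide) (by decide)
  have c3 := t.card_cj (σ := swap 0 3 * swap 1 5) (s := cy 2 3 5) (by decide) (by decide)
  have c4 := t.card_cj (σ := t4) (s := r2) (by decide) (by decide)
  have p1 := h.pow3 (τ := cy 0 1 3) (by decide) (by decide)
  have p2 := h.pow3 (τ := cy 2 3 4) (by decide) (by decide)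
  have p3 := h.pow3 (τ := cy 2 3 5) (by decide) (by decide)
  have cU := card_sup n
  rw [t.cardA, c1] at cU
  have key : ∀ σ, sign σ = 1 → σ * r1 * σ⁻¹ = cy 0 1 3 → h.el σ ^ 3 = 1 →
      Nat.card (Kr V (h.el σ)) = 4 → Kr V (h.el σ) ≤ Kr V (h.el r1) ⊔ Kr V (h.el (cy 0 1 3)) :=
    fun σ k e p c => by
      have l : Kr V (h.el r1) ⊔ Kr V (h.el (cy 0 1 3)) ≤ Kr V (h.el r1) ⊔ Kr V (h.el σ) :=
        sup_le le_sup_left fun v hv => by
          rw [← smul_inv_smul (h.el σ) v] at hv ⊢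
          exact smul_mem_sup p ((tr_Kr h k sign_r1 e _).1 hv)
      rw [AddSubgroup.eq_of_le_of_card_ge l ((card_sup_le _ _).trans (by rw [cU, t.cardA, c]))]
      exact le_sup_right
  have l2 := key _ (by decide) (by decide) p2 c2
  have l3 := key _ (by decide) (by decide) p3 c3
  have l4 : Kr V (h.el r2) ≤ Kr V (h.el r1) ⊔ Kr V (h.el (cy 0 1 3)) := fun v hv => by
    rw [← smul_inv_smul (h.el (cy 2 3 5)) v] at hv ⊢
    exact sup_le l2 l3 (smul_mem_sup p3 ((tr_Kr' h (s := cy 2 3 4) (by decide) (by decide) (by decide)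
      (by decide) _).1 hv))
  have e := AddSubgroup.eq_of_le_of_card_ge (sup_le le_sup_left l4) (by
    rw [cU, card_sup_of' (g := h.el r2) t.f2 le_rfl, t.cardA, c4])
  have l5 : Kr V (h.el (cy 0 1 3)) ≤ Fx V (h.el r1) := fun v hv => by
    refine fix_symm m h.a3 t.f2 ?_
    obtain ⟨x, hx, y, hy, rfl⟩ := AddSubgroup.mem_sup.1 (e ▸ AddSubgroup.mem_sup_right hv :
      v ∈ Kr V (h.el r1) ⊔ Kr V (h.el r2))
    by_cases x0 : x = 0
    · rwa [x0, zero_add]
    by_cases y0 : y = 0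
    · rw [y0, add_zero] at hv
      exact absurd (n x hx hv) x0
    have k := q_Kr m p1 c1 hv fun k => x0 (eq_zero_of_ee (v2_add_eq_zero.1 k ▸ hy) (t.f2 x hx))
    rw [q_add, q_Kr m h.a3 t.cardA hx x0, q_Kr m h.b3 c4 hy y0, m.perp (t.f2 x hx) hy] at k
    exact absurd k (by decide)
  have c := (comm_of_fix m p1 h.a3 l5).eq
  rw [← h.el_mul (by decide) sign_r1, ← h.el_mul sign_r1 (by decide)] at c
  exact absurd (h.el_inj (by decide) (by decide) c) (by decide)

theorem pt (t : RD V h w) (m : MV Y q) : ∃ x : V, x ≠ 0 ∧ Pt h x := by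
  obtain ⟨x, hA, hB, x0⟩ := t.meet m
  have lB := tr_le (V := V) h (σ := swap 2 3 * swap 0 1) (by decide) (s := r1⁻¹) (by decide) sign_r2
    (s' := cy 0 1 3) (t' := cy 2 4 5) (by decide) (by decide)
    (by rw [h.el_inv sign_r1, Kr_inv h.a3]; exact t.f2)
  have un : ∀ y ∈ Kr V (h.el r1), y ∈ Kr V (h.el (cy 0 1 3)) → y ≠ 0 → x = y := fun y h1 h2 y0 => by
    by_contra n
    have c := (comm_of_fix m h.a3 (h.pow3 (τ := cy 2 4 5) (by decide) (by decide)) fun v hv => lB (by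
      rcases mem_four t.cardA hA h1 x0 y0 n hv with rfl | rfl | rfl | rfl
      exacts [zero_mem _, hB, h2, add_mem hB h2])).eq
    rw [← h.el_mul (by decide) sign_r1, ← h.el_mul sign_r1 (by decide)] at c
    exact absurd (h.el_inj (by decide) (by decide) c) (by decide)
  have f2 := t.f2 x hA
  have fk : h.el k1 • x = x := by
    rw [show k1 = r2 * cy 2 4 5 * cy 2 4 5 * r2 by decide, h.el_mul (by decide) sign_r2,
      h.el_mul (by decide) (by decide), h.el_mul sign_r2 (by decide)]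
    simp only [mul_smul]
    rw [f2, lB hB, lB hB, f2]
  refine ⟨x, x0, f2, fk, ?_, hA⟩
  rw [show t0 = (swap 0 1 * swap 2 3) * cy 2 3 4 by decide, h.el_mul (by decide) (by decide), mul_smul,
    fix_of_gen f2 fk (by decide) (by decide) (by decide)]
  exact (un _ ((tr_Kr' h (s := cy 0 1 3) (by decide) (by decide) (by decide) (by decide) _).2 hB)
    ((tr_Kr' h (s := r1) (by decide) (by decide) (by decide) (by decide) _).2 hA)
    fun e => x0 ((smul_eq_zero_iff_eq _).1 e)).symm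

theorem uniq (t : RD V h w) {x y : V} (x0 : x ≠ 0) (px : Pt h x) (y0 : y ≠ 0) (py : Pt h y) :
    y = x := by
  have e : h.el t0 • h.el r1 • x = x + h.el r1 • x := by
    rw [← cj_smul, h.ta, px.ft, inv_smul3 h.a3, smul_smul_of_ee px.e1]
  have k := py.ft
  rcases mem_four' t.cardA (fun _ => smul_mem_Kr (Commute.refl _)) px.e1 x0 px.e1 py.e1 with
    rfl | rfl | rfl | rfl
  · exact absurd rfl y0
  · rfl
  · exact absurd (add_eq_right.1 (e.symm.trans k)) x0
  · rw [smul_add, e, px.ft, v2_add_add] at k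
    exact absurd (add_eq_right.1 k.symm) x0

theorem smul_uu (t : RD V h w) {x : V} (x0 : x ≠ 0) (p : Pt h x) (g : Y) (i j : Fin 6) :
    g • (uu h x i + uu h x j) = uu h x ((φ g).2 i) + uu h x ((φ g).2 j) := by
  by_cases hn : i = j
  · rw [hn, v2_add_self, v2_add_self, smul_zero]
  obtain ⟨σ, k, k0, k1, k2⟩ := p.conj g
  have e := t.uniq x0 p (fun e => x0 ((smul_eq_zero_iff_eq _).1 ((smul_eq_zero_iff_eq _).1 e))) k2
  obtain ⟨s, l, rfl, rfl, e'⟩ := p.exists_el hn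
  have l' : sign ((φ g).2 * s * (φ g).2⁻¹) = 1 := by simp [l]
  rw [e', ← cj_smul, h.cj_el l, inv_smul_eq_iff.1 e, ← mul_smul, ← h.el_mul l' k,
    p.form (by rw [map_mul, l', k, mul_one])]
  simp [k0, k1]

end RD

/-- The reducible case: a fixed non-singular vector, and `[V, w]` is a plane. -/
theorem RD.fix {h : S36 φ} (t : RD V h w) (m : MV Y q) (hw : φ w = (c3, 1)) :
    Nat.card (Fx V w) = 64 ∧ ∃ v : V, q v = 1 ∧ ∀ g : Y, g • v = v := by
  have := mv_fin m
  obtain ⟨x, x0, p⟩ := t.pt m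
  have sm : ∑ i, uu h x i = (uu h x 0 + uu h x 1) + (uu h x 2 + uu h x 3) + (uu h x 4 + uu h x 5) := by
    rw [Fin.sum_univ_six]; abel
  have fx : ∀ g : Y, g • ∑ i, uu h x i = ∑ i, uu h x i := fun g => by
    rw [← Equiv.sum_comp (φ g).2 (uu h x)]
    conv_lhs => rw [Equiv.sum_comp (φ g).2 (uu h x)]
    rw [sm, smul_add, smul_add, t.smul_uu x0 p, t.smul_uu x0 p, t.smul_uu x0 p, Fin.sum_univ_six]
    abel
  have e01 : uu h x 0 + uu h x 1 = x := by rw [uu_zero, p.uu_one, zero_add]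
  have qx : ∀ i j, i ≠ j → q (uu h x i + uu h x j) = 1 := fun i j hn => by
    obtain ⟨σ, -, -, -, e⟩ := p.exists_el hn
    rw [e, m.inv, q_Kr m h.a3 t.cardA p.e1 x0]
  have o1 : polar q (uu h x 0 + uu h x 1) (uu h x 4 + uu h x 5) = 0 := by
    rw [e01, polar_comm]
    exact m.perp (p.smul_uu sign_r1 4 5) p.e1
  have o2 : polar q (uu h x 0 + uu h x 1) (uu h x 2 + uu h x 3) = 0 := by
    rw [← m.pol (h.el (swap 2 4 * swap 3 5)), p.smul_uu (by decide), p.smul_uu (by decide)]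
    exact o1
  have o3 : polar q (uu h x 2 + uu h x 3) (uu h x 4 + uu h x 5) = 0 := by
    rw [← m.pol (h.el (swap 0 2 * swap 1 3)), p.smul_uu (by decide), p.smul_uu (by decide)]
    exact o1
  have q1 : q (∑ i, uu h x i) = 1 := by
    rw [sm, q_add, q_add q (_ + _) (_ + _), polar_add_left q (_ + _), o1, o2, o3, qx _ _ (by decide),
      qx _ _ (by decide), qx _ _ (by decide)]
    decide
  refine ⟨?_, _, q1, fx⟩
  have w3 := h.w_pow3 hw
  have lB : Kr V (h.el r2) ≤ Fx V w := fun v hv => by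
    rw [← smul_inv_smul (h.el t4) v] at hv ⊢
    exact smul_mem_Fx (h.w_comm hw sign_t4).symm (t.fw _ ((tr_Kr h sign_t4 sign_r1 (by decide) _).1 hv))
  have f1 : Kr V w ≤ Fx V (h.el r1) := fix_symm m h.a3 t.fw
  have f2 : Kr V w ≤ Fx V (h.el r2) := fix_symm m h.b3 lB
  set Z := Fx V w ⊓ (Fx V (h.el r1) ⊓ Fx V (h.el r2))
  have z2 : 2 ≤ Nat.card Z := by
    have : Nontrivial Z := ⟨⟨⟨_, fx _, fx _, fx _⟩, 0, fun e => by
      rw [show ∑ i, uu h x i = 0 from congrArg Subtype.val e, map_zero] at q1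
      exact zero_ne_one q1⟩⟩
    exact Finite.one_lt_card
  have l := AddSubgroup.card_le_card_addGroup (Kr V w ⊔ Z ⊔ Kr V (h.el r1) ⊔ Kr V (h.el r2))
  rw [card_sup_of' (g := h.el r2) (sup_le (sup_le f2 (inf_le_right.trans inf_le_right)) t.f2) le_rfl,
    card_sup_of' (g := h.el r1) (sup_le f1 (inf_le_right.trans inf_le_left)) le_rfl,
    card_sup_of (g := w) le_rfl inf_le_left, t.cardA,
    t.card_cj (σ := t4) (s := r2) (by decide) (by decide), m.card] at l
  have c := card_Fx_Kr (V := V) w3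
  have m3 := card_mod3 (U := Kr V w) w3 (fun _ => smul_mem_Kr (Commute.refl w)) le_rfl
  have n1 : Nat.card (Kr V w) ≠ 1 := fun e => S36.w_ne hw (m.faith w fun v => by
    have k := add_smul_mem_Kr w3 v
    rw [AddSubgroup.eq_bot_of_card_eq _ e] at k
    exact (v2_add_eq_zero.1 k).symm)
  rw [m.card] at c
  have l8 : Nat.card (Kr V w) ≤ 8 := by nlinarith
  generalize Nat.card (Kr V w) = n at *
  interval_cases n <;> omega

end Cfsg.Agent.X6
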