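import Mathlib
import Cfsg.Agent.X6.MB

/-! The tensor case: coordinates in which `r1`, `r2`, `t4` and the scalar act monomially. -/

set_option autoImplicit false
set_option linter.unusedSectionVars false

namespace Cfsg.Agent.X6

open Cfsg.Agent.Spor Cfsg.Agent.Spor.TT Cfsg.Agent.Cl Cfsg.Agent.LX Subgroup QuadraticMap Module
  Equiv Equiv.Perm

variable {Y V : Type*} [Group Y] [AddCommGroup V] [Module (ZMod 2) V] [DistribMulAction Y V]
  {q : QuadraticForm (ZMod 2) V} {φ : Y →* Perm (Fin 3) × Perm (Fin 6)} {w : Y} {h : S36 φ}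

/-- The diagonal matrix of `r1`. -/
def dg1 : V4 := ![om, om * om, 1, 1]
/-- The diagonal matrix of `r2`. -/
def dg2 : V4 := ![1, 1, om, om * om]
/-- The permutation matrix of `t4`. -/
def pm4 (u : V4) : V4 := ![u 3, u 2, u 0, u 1]

/-- Monomial coordinates. -/
structure MCo (h : S36 φ) (q : QuadraticForm (ZMod 2) V) (w : Y) (Φ : V4 ≃+ V) : Prop where
  sc : ∀ u, w • Φ u = Φ (om • u)
  a1 : ∀ u, h.el r1 • Φ u = Φ (dg1 * u)
  a2 : ∀ u, h.el r2 • Φ u = Φ (dg2 * u)
  a4 : ∀ u, h.el t4 • Φ u = Φ (pm4 u)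
  sq : ∀ u, q (Φ u) = 0 ↔ B4 u u = 0

theorem S36.r1_pow (h : S36 φ) : h.el r1 ^ 3 = 1 := by
  rw [← h.el_pow sign_r1, show r1 ^ 3 = 1 by decide, h.el_one]

theorem S36.r2_pow (h : S36 φ) : h.el r2 ^ 3 = 1 := by
  rw [← h.el_pow sign_r2, show r2 ^ 3 = 1 by decide, h.el_one]

theorem S36.r12 (h : S36 φ) : Commute (h.el r1) (h.el r2) := h.el_comm sign_r1 sign_r2 (by decide)

theorem S36.smul_eq (h : S36 φ) {a b c d : Perm (Fin 6)} (ha : sign a = 1) (hb : sign b = 1)
    (hc : sign c = 1) (hd : sign d = 1) (e : a * b = c * d) (v : V) :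
    h.el a • h.el b • v = h.el c • h.el d • v := by
  rw [← mul_smul, ← mul_smul, ← h.el_mul ha hb, e, h.el_mul hc hd]

theorem S36.t44 (h : S36 φ) (v : V) : h.el t4 • h.el t4 • v = h.el t0 • v := by
  rw [← mul_smul, ← h.el_mul sign_t4 sign_t4, show t4 * t4 = t0 by decide]

theorem S36.t00 (h : S36 φ) (v : V) : h.el t0 • h.el t0 • v = v := by
  rw [← mul_smul, ← h.el_mul sign_t0 sign_t0, show t0 * t0 = 1 by decide, h.el_one, one_smul]

theorem TD.ww (t : TD V h w) (hw : φ w = (c3, 1)) (v : V) : w • w • v = v + w • v :=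
  smul_smul_of_ee (t.fw _ (smul_ee (h.w_pow3 hw) v))

/-- A common eigenvector. -/
theorem TD.exists_e (t : TD V h w) (hw : φ w = (c3, 1)) :
    ∃ e : V, e ≠ 0 ∧ h.el r2 • e = e ∧ h.el r1 • e = w • e := by
  have c1 := h.w_comm hw sign_r1
  have c2' := h.w_comm hw sign_r2
  have s1 := comm_smul (V := V) c1
  have : Finite (Fx V (h.el r2)) := Nat.finite_of_card_ne_zero (by rw [t.card]; norm_num)
  have : Nontrivial (Fx V (h.el r2)) := Finite.one_lt_card_iff_nontrivial.1 (by rw [t.card]; norm_num)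
  obtain ⟨⟨v, hv⟩, h0⟩ := exists_ne (0 : Fx V (h.el r2))
  have h0 : v ≠ 0 := fun e => h0 (Subtype.ext e)
  have h1 : ee (h.el r1) v = 0 := t.fD _ (smul_ee h.r1_pow v) (by rw [← ee_comm h.r12.symm, hv])
  have p1 : (h.el r1 * w) ^ 3 = 1 := by rw [c1.symm.mul_pow, h.r1_pow, h.w_pow3 hw, one_mul]
  have c3 : Commute (h.el r1 * w) w := c1.symm.mul_left (Commute.refl w)
  have p2 : (h.el r1 * w * w) ^ 3 = 1 := by rw [c3.mul_pow, p1, h.w_pow3 hw, one_mul]
  have e : ee (h.el r1 * w * w) v + ee (h.el r1 * w) v = v := by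
    simp only [ee, mul_smul, s1, t.ww hw, smul_add, smul_smul_of_ee h1]
    have := smul_smul_of_ee (show ee (h.el r1) (w • v) = 0 by rw [ee_comm c1, h1, smul_zero])
    simp only [this]
    simp only [ac_eq]
    refine c2 ?_
    match_scalars <;> decide
  have d1 : Commute (h.el r2) (h.el r1 * w) := h.r12.symm.mul_right c2'.symm
  by_cases k : ee (h.el r1 * w * w) v = 0
  · rw [k, zero_add] at e
    have k1 := smul_ee p1 v
    rw [e, mul_smul, ← s1] at k1
    refine ⟨h.el t0 • v, fun k => h0 ((smul_eq_zero_iff_eq _).1 k), ?_, ?_⟩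
    · have : sign (r2 * r2) = 1 := by decide
      rw [h.smul_eq sign_r2 sign_t0 sign_t0 this (by decide), h.el_mul sign_r2 sign_r2, mul_smul, hv, hv]
    · have : sign (r1 * r1) = 1 := by decide
      have k2 : h.el r1 • v = w • w • v := by
        conv_rhs => rw [← k1, smul3 (h.w_pow3 hw)]
      rw [h.smul_eq sign_r1 sign_t0 sign_t0 this (by decide), h.el_mul sign_r1 sign_r1, mul_smul, k2,
        ← s1, ← s1, k2, smul3 (h.w_pow3 hw), comm_smul (h.w_comm hw sign_t0)]
  · refine ⟨_, k, by rw [← ee_comm (d1.mul_right c2'.symm), hv], ?_⟩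
    conv_rhs => rw [← smul_ee p2 v, mul_smul, mul_smul, s1, smul3 (h.w_pow3 hw)]

theorem TD.mco (t : TD V h w) (m : MV Y q) (hw : φ w = (c3, 1)) : ∃ Φ : V4 ≃+ V, MCo h q w Φ := by
  have fin : Finite V := Nat.finite_of_card_ne_zero (by rw [m.card]; norm_num)
  obtain ⟨e, h0, h2, h1⟩ := t.exists_e hw
  let J : V →+ V := DistribSMul.toAddMonoidHom V w
  have hJ : ∀ v, J (J v) = v + J v := t.ww hw
  have so : ∀ v, sm J om v = w • v := fun v => by
    rw [sm, show re4 om = 0 by decide, show im4 om = 1 by decide, zero_smul, one_smul, zero_add]; rfl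
  have sl : ∀ σ, sign σ = 1 → ∀ c v, h.el σ • sm J c v = sm J c (h.el σ • v) := fun σ hs c v =>
    sm_lin (τ := DistribSMul.toAddMonoidHom V (h.el σ))
      (fun v => (comm_smul (h.w_comm hw hs) v).symm) c v
  have s41 : ∀ v : V, h.el r2 • h.el t4 • v = h.el t4 • h.el r1 • v :=
    h.smul_eq sign_r2 sign_t4 sign_t4 sign_r1 (by decide)
  have s42 : ∀ v : V, h.el r1 • h.el t4 • v = h.el t4 • h.el r2 • h.el r2 • v := fun v => by
    rw [h.smul_eq (d := r2 * r2) sign_r1 sign_t4 sign_t4 (by decide) (by decide), h.el_mul sign_r2 sign_r2,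
      mul_smul]
  have s4w := comm_smul (V := V) (h.w_comm hw sign_t4)
  have s2w := comm_smul (V := V) (h.w_comm hw sign_r2)
  have b2 : h.el r2 • h.el t4 • e = w • h.el t4 • e := by rw [s41, h1, s4w]
  have b1 : h.el r1 • h.el t4 • e = h.el t4 • e := by rw [s42, h2, h2]
  have c2' : h.el r2 • h.el t4 • h.el t4 • e = h.el t4 • h.el t4 • e := by rw [s41, b1]
  have c1 : h.el r1 • h.el t4 • h.el t4 • e = w • w • h.el t4 • h.el t4 • e := by
    rw [s42, b2, ← s2w, b2, ← s4w, ← s4w]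
  have d2 : h.el r2 • h.el t4 • h.el t4 • h.el t4 • e = w • w • h.el t4 • h.el t4 • h.el t4 • e := by
    rw [s41, c1, ← s4w, ← s4w]
  have d1 : h.el r1 • h.el t4 • h.el t4 • h.el t4 • e = h.el t4 • h.el t4 • h.el t4 • e := by
    rw [s42, c2', c2']
  have t4e : h.el t4 • h.el t4 • h.el t4 • h.el t4 • e = e := by rw [h.t44, h.t44, h.t00]
  let E : Fin 4 → V := ![e, h.el t4 • h.el t4 • e, h.el t4 • e, h.el t4 • h.el t4 • h.el t4 • e]
  let Φ : V4 →+ V := AddMonoidHom.mk' (fun u => ∑ i, sm J (u i) (E i)) fun u v => by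
    simp only [Pi.add_apply, add_sm, Finset.sum_add_distrib]
  have hΦ : ∀ u, Φ u = sm J (u 0) e + sm J (u 1) (h.el t4 • h.el t4 • e) + sm J (u 2) (h.el t4 • e) +
      sm J (u 3) (h.el t4 • h.el t4 • h.el t4 • e) := fun u => Fin.sum_univ_four fun i => sm J (u i) (E i)
  have sc : ∀ u, w • Φ u = Φ (om • u) := fun u => by
    simp only [hΦ, smul_add, Pi.smul_apply, smul_eq_mul, mul_sm hJ, so]
  have mc : ∀ c d v, sm J (c * d) v = sm J d (sm J c v) := fun c d v => by rw [mul_comm, mul_sm hJ]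
  have a1 : ∀ u, h.el r1 • Φ u = Φ (dg1 * u) := fun u => by
    simp only [hΦ, smul_add, sl _ sign_r1, h1, b1, c1, d1, Pi.mul_apply]
    change _ = sm J (om * _) _ + sm J (om * om * _) _ + sm J (1 * _) _ + sm J (1 * _) _
    simp only [one_mul, mc, so]
  have a2 : ∀ u, h.el r2 • Φ u = Φ (dg2 * u) := fun u => by
    simp only [hΦ, smul_add, sl _ sign_r2, h2, b2, c2', d2, Pi.mul_apply]
    change _ = sm J (1 * _) _ + sm J (1 * _) _ + sm J (om * _) _ + sm J (om * om * _) _
    simp only [one_mul, mc, so]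
  have a4 : ∀ u, h.el t4 • Φ u = Φ (pm4 u) := fun u => by
    simp only [hΦ, smul_add, sl _ sign_t4, t4e]
    change _ = sm J (u 3) _ + sm J (u 2) _ + sm J (u 0) _ + sm J (u 1) _
    abel
  let g : Fin 4 → Y := ![w * w * h.el r1, w * h.el r1, w * w * h.el r2, w * h.el r2]
  let D : Fin 4 → V4 := ![om • om • dg1, om • dg1, om • om • dg2, om • dg2]
  have hg : ∀ i u, g i • Φ u = Φ (D i * u) := fun i u => by
    fin_cases i <;> simp only [g, D, mul_smul, a1, a2, sc, smul_mul_assoc, Matrix.cons_val_zero,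
      Matrix.cons_val_one, Matrix.cons_val, Fin.zero_eta, Fin.mk_one, Fin.reduceFinMk]
  have hD : ∀ i (u : V4), u + D i * u + D i * (D i * u) = Pi.single i (u i) := fun i u => by
    have k : ∀ i j : Fin 4, ∀ a : F4, a + D i j * a + D i j * (D i j * a) = if j = i then a else 0 := by
      decide
    funext j
    rw [Pi.single_apply]
    split_ifs with l
    · simpa [l] using k i i (u i)
    · simpa [l] using k i j (u j)
  have he : ∀ i u, ee (g i) (Φ u) = Φ (Pi.single i (u i)) := fun i u => by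
    rw [ee, hg, hg, ← map_add, ← map_add, hD]
  have hs : ∀ i c, Φ (Pi.single i c) = sm J c (E i) := fun i c => by
    change ∑ j, sm J ((Pi.single i c : V4) j) (E j) = _
    rw [Finset.sum_eq_single i (fun j _ hj => by rw [Pi.single_eq_of_ne hj, zero_sm]) (by simp),
      Pi.single_eq_same]
  have hE : ∀ i, E i ≠ 0 := fun i => by fin_cases i <;> simpa [E, smul_eq_zero_iff_eq] using h0
  have inj : Function.Injective Φ := (injective_iff_map_eq_zero Φ).2 fun u hu => funext fun i =>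
    sm_eq_zero hJ (hE i) (by rw [← hs, ← he, hu, ee_zero])
  have bij := (Nat.bijective_iff_injective_and_card Φ).2 ⟨inj, by simp [m.card, card_GF4]⟩
  have p : ∀ i j, i ≠ j → ∀ c d, polar q (sm J c (E i)) (sm J d (E j)) = 0 := fun i j hj c d =>
    m.perp (g := g i) (by
      rw [← hs, hg]
      congr 1
      funext l
      by_cases k : l = i
      · have : ∀ i, D i i = 1 := by decide
        rw [k, Pi.mul_apply, this, one_mul]
      · simp [Pi.single_eq_of_ne k]) (by rw [← hs, he, Pi.single_eq_of_ne hj, Pi.single_zero, map_zero])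
  have qs : ∀ c v, c ≠ 0 → q (sm J c v) = q v := fun c v hc => by
    rcases f4_cases c with rfl | rfl | rfl | rfl
    · exact absurd rfl hc
    · rw [one_sm]
    · rw [so, m.inv]
    · rw [show (om + 1 : F4) = om * om by decide, mc, so, so, m.inv, m.inv]
  have q1 : q e = 1 := (z2_cases _).resolve_left fun k => h0 (m.nd e fun v => by
    obtain ⟨u, rfl⟩ := bij.2 v
    have k0 : ∀ c, q (sm J c e) = 0 := fun c => by
      by_cases l : c = 0
      · rw [l, zero_sm, map_zero]
      · rw [qs c e l, k]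
    have k1 := q_add q (sm J 1 e) (sm J (u 0) e)
    rw [← add_sm, k0, k0, k0, zero_add, zero_add] at k1
    rw [hΦ, polar_add_right, polar_add_right, polar_add_right]
    conv_lhs => enter [1, 1, 1, 2]; rw [← one_sm J e]
    conv_lhs => enter [1, 1, 2, 2]; rw [← one_sm J e]
    conv_lhs => enter [1, 2, 2]; rw [← one_sm J e]
    conv_lhs => enter [2, 2]; rw [← one_sm J e]
    rw [← k1, zero_add]
    exact (congrArg₂ (· + ·) (congrArg₂ (· + ·) (p 0 1 (by decide) 1 _) (p 0 2 (by decide) 1 _))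
      (p 0 3 (by decide) 1 _)).trans (by simp))
  refine ⟨AddEquiv.ofBijective Φ bij, sc, a1, a2, a4, fun u => ?_⟩
  let χ : F4 → ZMod 2 := fun c => if c = 0 then 0 else 1
  have hq : ∀ i, q (sm J (u i) (E i)) = χ (u i) := fun i => by
    by_cases k : u i = 0
    · simp [χ, k, zero_sm]
    · simp only [χ, if_neg k, qs _ _ k]
      fin_cases i <;> simp [E, m.inv, q1]
  have d : ∀ a b c d : F4, χ a + χ b + χ c + χ d = 0 ↔
      a * s4 a + b * s4 b + c * s4 c + d * s4 d = 0 := by decide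
  change q (∑ i, sm J (u i) (E i)) = 0 ↔ _
  rw [B4_eq, ← d, Fin.sum_univ_four]
  simp only [q_add, polar_add_left, hq, p 0 1 (by decide), p 0 2 (by decide), p 0 3 (by decide),
    p 1 2 (by decide), p 1 3 (by decide), p 2 3 (by decide), add_zero]

end Cfsg.Agent.X6
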