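import Mathlib
import Cfsg.Agent.X6.MB
import Cfsg.Agent.X6.MTa

/-! The tensor case: unitary coordinates and the real structure. -/

set_option autoImplicit false
set_option linter.unusedSectionVars false

namespace Cfsg.Agent.X6

open Cfsg.Agent.Spor Cfsg.Agent.Spor.TT Cfsg.Agent.Cl Cfsg.Agent.LX Subgroup QuadraticMap Module
  Equiv Equiv.Perm

variable {Y V : Type*} [Group Y] [AddCommGroup V] [Module (ZMod 2) V] [DistribMulAction Y V]
  {q : QuadraticForm (ZMod 2) V} {φ : Y →* Perm (Fin 3) × Perm (Fin 6)} {w : Y}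

theorem mt_lin {f : V4 → V4} (ha : ∀ u v, f (u + v) = f u + f v) (h : ∀ u, f (om • u) = om • f u) :
    Lin f := fun c u => by
  rcases f4_cases c with rfl | rfl | rfl | rfl
  · simpa using ha 0 0
  · simp
  · exact h u
  · rw [add_smul, add_smul, ha, h, one_smul, one_smul]

theorem mt_semi {f : V4 → V4} (ha : ∀ u v, f (u + v) = f u + f v)
    (h : ∀ u, f (om • u) = om • om • f u) : Semi f := fun c u => by
  rcases f4_cases c with rfl | rfl | rfl | rfl
  · simpa using ha 0 0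
  · simp
  · rw [h, smul_smul]; rfl
  · rw [add_smul, ha, h, one_smul, smul_smul, map_add, map_one, add_smul, one_smul]; rfl

theorem mt_fix_of_perp (m : MV Y q) {g : Y} (hg : g ^ 3 = 1) {u : V}
    (hp : ∀ v, ee g v = 0 → polar q u v = 0) : g • u = u := by
  have h1 : u + ee g u = 0 := m.nd _ fun v => by
    rw [← v2_add_add (ee g v) v, add_comm _ v, polar_add_right, polar_comm, m.perp (smul_ee hg v)
      (ee_add_ee hg u), polar_add_left, hp _ (ee_add_ee hg v), m.perp (smul_ee hg u) (ee_add_ee hg v)]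
    simp
  rw [v2_add_eq_zero.1 h1, smul_ee hg]

theorem mt_exists_fix {a b : Y} (ha : a * a = 1) (hb : b * b = 1) (hc : Commute a b) {v : V}
    (hv : v ≠ 0) : ∃ f : V, f ≠ 0 ∧ a • f = f ∧ b • f = f := by
  obtain ⟨u, h0, h1⟩ : ∃ u : V, u ≠ 0 ∧ a • u = u := by
    by_cases k : a • v = v
    · exact ⟨v, hv, k⟩
    · exact ⟨v + a • v, fun e => k (v2_add_eq_zero.1 e).symm, by
        rw [smul_add, ← mul_smul, ha, one_smul, add_comm]⟩
  by_cases k : b • u = u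
  · exact ⟨u, h0, h1, k⟩
  · exact ⟨u + b • u, fun e => k (v2_add_eq_zero.1 e).symm, by rw [smul_add, comm_smul hc, h1], by
      rw [smul_add, ← mul_smul, hb, one_smul, add_comm]⟩

/-- The involution `(2 4)(3 5)`. -/
def k2 : Perm (Fin 6) := swap 2 4 * swap 3 5

theorem sign_k2 : sign k2 = 1 := by decide

/-- The coordinates of the vectors `u i`. -/
def cu : Fin 6 → V4 := ![0, ![1, 1, 0, 0], ![om * om, om, 0, 0], ![om, om * om, om, om * om],
  ![om, om * om, om * om, om], ![om, om * om, 1, 1]]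

namespace MCo

variable {h : S36 φ} {Φ : V4 ≃+ V}

theorem a0 (c : MCo h q w Φ) (u : V4) : h.el t0 • Φ u = Φ ![u 1, u 0, u 3, u 2] := by
  rw [← h.t44, c.a4, c.a4]; rfl

theorem lin (c : MCo h q w Φ) {g : Y} (hg : Commute w g) : Lin fun u => Φ.symm (g • Φ u) :=
  mt_lin (fun u v => by simp only [map_add, smul_add]) fun u => by
    rw [← c.sc, ← comm_smul hg, AddEquiv.symm_apply_eq, ← c.sc, AddEquiv.apply_symm_apply]

theorem smul_sc (c : MCo h q w Φ) {g : Y} (hg : Commute w g) (a : F4) (u : V4) :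
    g • Φ (a • u) = Φ (a • Φ.symm (g • Φ u)) := Φ.symm_apply_eq.1 (c.lin hg a u)

theorem fk (c : MCo h q w Φ) (m : MV Y q) (hw : φ w = (c3, 1)) :
    h.el k1 • Φ (cu 1) = Φ (cu 1) := by
  let A : AddSubgroup V4 := (Fx V (h.el k1) ⊓ Fx V (h.el k2)).comap Φ.toAddMonoidHom
  have mA : ∀ u, u ∈ A ↔ h.el k1 • Φ u = Φ u ∧ h.el k2 • Φ u = Φ u := fun _ => Iff.rfl
  have s12 : sign (k1 * k2) = 1 := by decide
  have hs : ∀ (a : F4), ∀ u ∈ A, a • u ∈ A := fun a u hu => (mA _).2 ⟨by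
    rw [c.smul_sc (h.w_comm hw sign_k1), ((mA u).1 hu).1, AddEquiv.symm_apply_apply], by
    rw [c.smul_sc (h.w_comm hw sign_k2), ((mA u).1 hu).2, AddEquiv.symm_apply_apply]⟩
  have h2 : ∀ u ∈ A, dg2 * u ∈ A := fun u hu => (mA _).2 ⟨by
    rw [← c.a2, h.smul_eq sign_k1 sign_r2 sign_r2 s12 (by decide), h.el_mul sign_k1 sign_k2, mul_smul,
      ((mA u).1 hu).2, ((mA u).1 hu).1], by
    rw [← c.a2, h.smul_eq sign_k2 sign_r2 sign_r2 sign_k1 (by decide), ((mA u).1 hu).1]⟩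
  have h0 : ∀ u ∈ A, ![u 1, u 0, u 3, u 2] ∈ A := fun u hu => (mA _).2 ⟨by
    rw [← c.a0, h.smul_eq sign_k1 sign_t0 sign_t0 sign_k2 (by decide), ((mA u).1 hu).2], by
    rw [← c.a0, h.smul_eq sign_k2 sign_t0 sign_t0 sign_k1 (by decide), ((mA u).1 hu).1]⟩
  obtain ⟨f, f0, hf⟩ := mt_exists_fix (a := h.el k1) (b := h.el k2) (v := Φ (cu 1))
    (by rw [← h.el_mul sign_k1 sign_k1, show k1 * k1 = 1 by decide, h.el_one])
    (by rw [← h.el_mul sign_k2 sign_k2, show k2 * k2 = 1 by decide, h.el_one])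
    (h.el_comm sign_k1 sign_k2 (by decide)) (by rw [Ne, EmbeddingLike.map_eq_zero_iff]; decide)
  obtain ⟨u, rfl⟩ := Φ.surjective f
  have hu := (mA u).2 hf
  have u0 : u ≠ 0 := fun e => f0 (by rw [e, map_zero])
  obtain ⟨a, b, a', b', rfl⟩ : ∃ a b a' b' : F4, u = ![a, b, a', b'] :=
    ⟨u 0, u 1, u 2, u 3, by funext i; fin_cases i <;> rfl⟩
  by_contra n
  have k1' : a = 0 ∧ b = 0 := by
    have e : ∀ a b a' b' : F4, let u : V4 := ![a, b, a', b']
        let v := u + dg2 * u + dg2 * (dg2 * u)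
        (a = 0 ∧ b = 0) ∨ ∃ s t : F4, cu 1 = s • v + t • ![v 1, v 0, v 3, v 2] := by decide +kernel
    refine (e a b a' b').resolve_right fun ⟨s, t, e⟩ => n ?_
    have := add_mem (add_mem hu (h2 _ hu)) (h2 _ (h2 _ hu))
    exact (e ▸ add_mem (hs s _ this) (hs t _ (h0 _ this)) : cu 1 ∈ A).1
  obtain ⟨rfl, rfl⟩ := k1'
  have k2' : ∀ s t : F4, ![0, 0, s, t] ∈ A := by
    have e : ∀ a b : F4, (![0, 0, a, b] : V4) ≠ 0 → ∃ s t : F4, let u : V4 := ![0, 0, a, b]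
        s • u + t • (dg2 * u) = ![0, 0, 1, 0] ∨ s • u + t • (dg2 * u) = ![0, 0, 0, 1] := by decide +kernel
    have e' : ∀ s t : F4, (![0, 0, s, t] : V4) = s • ![0, 0, 1, 0] + t • ![0, 0, 0, 1] := by
      decide +kernel
    obtain ⟨s, t, e⟩ := e a' b' u0
    have := add_mem (hs s _ hu) (hs t _ (h2 _ hu))
    intro s' t'
    rw [e']
    rcases e with e | e <;> rw [e] at this
    · exact add_mem (hs _ _ this) (hs _ _ (h0 _ this))
    · exact add_mem (hs _ _ (h0 _ this)) (hs _ _ this)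
  have k3 : ∀ v : V, ee (h.el r2) v = 0 → h.el k1 • v = v := fun v hv => by
    obtain ⟨u, rfl⟩ := Φ.surjective v
    rw [ee, c.a2, c.a2, ← map_add, ← map_add, EmbeddingLike.map_eq_zero_iff] at hv
    have e : ∀ a : F4, a + 1 * a + 1 * (1 * a) = 0 → a = 0 := by decide
    have e' : u = ![0, 0, u 2, u 3] := by
      funext i
      fin_cases i
      exacts [e _ (congrFun hv 0), e _ (congrFun hv 1), rfl, rfl]
    rw [e']
    exact (k2' _ _).1
  have k4 : ∀ v : V, h.el r2 • h.el k1 • v = h.el k1 • h.el r2 • v := fun v => by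
    have e1 := smul_ee h.r2_pow v
    have e2 := ee_add_ee h.r2_pow v
    rw [← v2_add_add (ee (h.el r2) v) v, add_comm _ v]
    generalize v + ee (h.el r2) v = v' at e2
    generalize ee (h.el r2) v = v'' at e1
    rw [smul_add, smul_add, smul_add, smul_add, e1, k3 v' e2,
      k3 (h.el r2 • v') (by rw [ee_comm (Commute.refl _), e2, smul_zero]),
      mt_fix_of_perp (u := h.el k1 • v'') m h.r2_pow fun x hx => by rw [← k3 x hx, m.pol, m.perp e1 hx]]
  have k5 := m.faith ((h.el k1 * h.el r2)⁻¹ * (h.el r2 * h.el k1)) fun v => by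
    rw [mul_smul, mul_smul, k4, ← mul_smul (h.el k1), inv_smul_smul]
  rw [inv_mul_eq_one, ← h.el_mul sign_k1 sign_r2, ← h.el_mul sign_r2 sign_k1] at k5
  exact absurd (h.el_inj (by decide) (by decide) k5) (by decide)

theorem pt (c : MCo h q w Φ) (m : MV Y q) (hw : φ w = (c3, 1)) : Pt h (Φ (cu 1)) :=
  ⟨by rw [c.a2, show dg2 * cu 1 = cu 1 by decide], c.fk m hw, by rw [c.a0]; rfl, by
    rw [ee, c.a1, c.a1, ← map_add, ← map_add, EmbeddingLike.map_eq_zero_iff]; decide⟩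

theorem uu_eq (c : MCo h q w Φ) (t : TD V h w) (p : Pt h (Φ (cu 1))) (i : Fin 6) :
    uu h (Φ (cu 1)) i = Φ (cu i) := by
  have e1 := p.uu_one
  have e2 : uu h (Φ (cu 1)) 1 + uu h (Φ (cu 1)) 2 = Φ (dg1 * cu 1) := (p.form sign_r1).symm.trans (c.a1 _)
  have e3 : uu h (Φ (cu 1)) 3 + uu h (Φ (cu 1)) 4 = Φ (pm4 (cu 1)) := (p.form sign_t4).symm.trans (c.a4 _)
  have e4 : uu h (Φ (cu 1)) 4 + uu h (Φ (cu 1)) 5 = Φ (dg2 * pm4 (cu 1)) :=
    (p.form (τ := r2 * t4) (by decide)).symm.trans (by rw [h.el_mul sign_r2 sign_t4, mul_smul, c.a4, c.a2])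
  have e5 := t.fD _ (p.smul_sum sign_r1) (p.smul_sum sign_r2)
  rw [Fin.sum_univ_six, uu_zero, zero_add, e2, add_assoc, e4, add_right_comm, ← map_add,
    v2_add_eq_zero] at e5
  have f2 : uu h (Φ (cu 1)) 2 = Φ (cu 2) := by
    rw [← v2_add_add (uu h _ 1) (uu h _ 2), e2, e1, ← map_add]
    exact congrArg Φ (by decide)
  have f3 : uu h (Φ (cu 1)) 3 = Φ (cu 3) := e5.symm.trans (congrArg Φ (by decide))
  have f4 : uu h (Φ (cu 1)) 4 = Φ (cu 4) := by
    rw [← v2_add_add (uu h _ 3) (uu h _ 4), e3, f3, ← map_add]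
    exact congrArg Φ (by decide)
  have f5 : uu h (Φ (cu 1)) 5 = Φ (cu 5) := by
    rw [← v2_add_add (uu h _ 4) (uu h _ 5), e4, f4, ← map_add]
    exact congrArg Φ (by decide)
  fin_cases i
  exacts [uu_zero.trans (map_zero Φ).symm, e1, f2, f3, f4, f5]

end MCo

theorem cu_re : ∀ i j, Re4 (cu i + cu j) := by decide +kernel

theorem Re4.exists_cu {p : V4} (hp : Re4 p) : ∃ i j, p = cu i + cu j := by
  have e : ∀ a b : F4, ∃ i j, ![a, s4 a, b, s4 b] = cu i + cu j := by decide +kernel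
  exact hp.eq ▸ e _ _

theorem cu_rot {i j k l : Fin 6} (h1 : cu i + cu j ≠ 0) (h2 : cu k + cu l ≠ 0)
    (h3 : cu i + cu j ≠ cu k + cu l) (h4 : B4 (cu i + cu j) (cu k + cu l) = 0) :
    (i ≠ j ∧ i ≠ k ∧ i ≠ l ∧ j ≠ k ∧ j ≠ l ∧ k ≠ l) ∧ ∃ m n : Fin 6,
      (k ≠ m ∧ k ≠ n ∧ l ≠ m ∧ l ≠ n ∧ m ≠ n) ∧ cu m + cu n = cu i + cu j + (cu k + cu l) := by
  let b : V4 → V4 → F4 := fun x p => x 0 * s4 (p 0) + x 1 * s4 (p 1) + x 2 * s4 (p 2) + x 3 * s4 (p 3)
  have e1 : ∀ i j k l : Fin 6, cu i + cu j = 0 ∨ cu k + cu l = 0 ∨ cu i + cu j = cu k + cu l ∨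
      b (cu i + cu j) (cu k + cu l) ≠ 0 ∨ [i, j, k, l].Nodup := by decide +kernel
  have e2 : ∀ i j k l : Fin 6, [i, j, k, l].Nodup → ∃ m n : Fin 6,
      [k, l, m, n].Nodup ∧ cu m + cu n = cu i + cu j + (cu k + cu l) := by decide +kernel
  have e3 := (((e1 i j k l).resolve_left h1).resolve_left h2).resolve_left h3 |>.resolve_left
    fun h => h ((B4_eq _ _).symm.trans h4)
  obtain ⟨m, n, e4, e5⟩ := e2 i j k l e3
  simp only [List.nodup_cons, List.mem_cons, List.not_mem_nil, or_false, not_or] at e3 e4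
  exact ⟨by tauto, m, n, by tauto, e5⟩

/-- The tensor case: coordinates. -/
theorem TD.tm {h : S36 φ} (t : TD V h w) (m : MV Y q) (hw : φ w = (c3, 1)) :
    ∃ Φ : V4 ≃+ V, TM q w Φ := by
  obtain ⟨Φ, c⟩ := t.mco m hw
  have p := c.pt m hw
  have act : ∀ σ, sign σ = 1 → ∀ i j, h.el σ • Φ (cu i + cu j) = Φ (cu (σ i) + cu (σ j)) :=
    fun σ hs i j => by
      simpa only [c.uu_eq t p, ← map_add] using p.smul_uu hs i j
  refine ⟨Φ, c.sq, fun u => by rw [c.sc, AddEquiv.symm_apply_apply], fun g => ?_, fun g => ?_,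
    fun x y hx hy x0 y0 hn hB => ?_⟩
  · rcases h.w_norm hw g with e | e
    · exact Or.inl (c.lin (cj_eq_self_iff.1 e).symm)
    · refine Or.inr (mt_semi (fun u v => by simp only [map_add, smul_add]) fun u => ?_)
      rw [← c.sc, ← cj_smul, e, AddEquiv.symm_apply_eq, ← c.sc, ← c.sc, AddEquiv.apply_symm_apply, mul_smul]
  · obtain ⟨σ, hs, -, -, p'⟩ := p.conj g
    obtain ⟨u, hu⟩ := Φ.surjective ((h.el σ)⁻¹ • g • Φ (cu 1))
    have e1 := p'.f2
    have e2 := p'.ft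
    rw [← hu] at e1 e2
    rw [c.a2, EmbeddingLike.apply_eq_iff_eq] at e1
    rw [c.a0, EmbeddingLike.apply_eq_iff_eq] at e2
    have e3 : u = u 0 • cu 1 := by
      have e : ∀ a : F4, om * a = a → a = 0 := by decide
      have e4 : u 2 = 0 := e _ (congrFun e1 2)
      funext i
      fin_cases i
      exacts [(mul_one _).symm, (congrFun e2 0).trans (mul_one _).symm, e4.trans (mul_zero _).symm,
        ((congrFun e2 2).trans e4).trans (mul_zero _).symm]
    have u0 : u 0 ≠ 0 := fun e => by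
      rw [e3, e, zero_smul, map_zero, eq_comm, smul_eq_zero_iff_eq, smul_eq_zero_iff_eq,
        EmbeddingLike.map_eq_zero_iff] at hu
      exact absurd hu (by decide)
    rw [eq_inv_smul_iff, e3] at hu
    refine ⟨(u 0)⁻¹, inv_ne_zero u0, fun y hy => ?_⟩
    obtain ⟨i, j, rfl⟩ := hy.exists_cu
    by_cases k : i = j
    · rw [k, v4_add_self, map_zero, smul_zero, map_zero, smul_zero]
      exact re4_zero
    obtain ⟨s, s1, -, -, e4⟩ := p.exists_el k
    have s2 : sign ((φ g).2 * s * (φ g).2⁻¹) = 1 := by simp [s1]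
    have s3 : sign ((φ g).2 * s * (φ g).2⁻¹ * σ) = 1 := by rw [map_mul, s2, hs, mul_one]
    rw [c.uu_eq t p, c.uu_eq t p, ← map_add] at e4
    rw [e4, ← cj_smul, h.cj_el s1, ← hu, ← mul_smul,
      ← h.el_mul s2 hs, c.smul_sc (h.w_comm hw s3), AddEquiv.symm_apply_apply, inv_smul_smul₀ u0, p.form s3,
      c.uu_eq t p, c.uu_eq t p, ← map_add, AddEquiv.symm_apply_apply]
    exact cu_re _ _
  · obtain ⟨i, j, rfl⟩ := hx.exists_cu
    obtain ⟨k, l, rfl⟩ := hy.exists_cu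
    obtain ⟨⟨h1, h2, h3, h4, h5, h6⟩, a, b, ⟨k1, k2, k3, k4, k5⟩, e⟩ :=
      cu_rot x0 y0 hn hB
    obtain ⟨α, sα, rfl, rfl, rfl, rfl⟩ := exists_even4 h1 h2 h3 h4 h5 h6
    obtain ⟨β, sβ, b0, b1, rfl, rfl⟩ := exists_even4 h6 k1 k2 k3 k4 k5
    have s : sign (β * α⁻¹) = 1 := by simp [sα, sβ]
    refine ⟨h.el (β * α⁻¹), c.lin (h.w_comm hw s), ?_, ?_⟩
    · rw [act _ s, AddEquiv.symm_apply_apply]
      simp [b0, b1]
    · rw [act _ s, AddEquiv.symm_apply_apply, ← e]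
      simp

end Cfsg.Agent.X6
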