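import Mathlib
import Cfsg.Agent.X6.Defs

/-!
A cyclic subgroup of order four of `QQ z` that is normal in `C(z)` excludes commuting conjugates
outside `QQ z` (the argument of `LX/R2`).
-/

set_option autoImplicit false

namespace Cfsg.Agent.X6

open Cfsg.Agent.Spor Cfsg.Agent.Spor.TT Cfsg.Agent.Cl Cfsg.Agent.LX Subgroup QuadraticMap Module

variable {G : Type*} [Group G] [Finite G] {z a g y y' : G}

omit [Finite G] in
theorem YH.cj (h : YH z y) (g : G) : YH (TT.cj g z) (TT.cj g y) := by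
  refine ⟨h.big.cj g, cj_mem_QQ.2 h.y_mem, by rw [← cj_mul, h.y_sq], fun c hc => ?_⟩
  have := h.y_norm _ (commute_cj_left.1 hc)
  rwa [← cj_inj (g := g), ← cj_inj (g := g) (y := z * y), cj_dist, cj_cj_inv, cj_mul] at this

omit [Finite G] in
theorem YH.of_isConj (h : YH z y) (ha : IsConj z a) : ∃ y', YH a y' := by
  obtain ⟨g, rfl⟩ := exists_cj ha
  exact ⟨_, h.cj g⟩

theorem YH.of_comm (hp : Pr z a) (hz : YH z y) (ha : YH a y') (c : Commute z y') :
    Commute a y ∧ 64 ≤ Nat.card ↥(QQ z ⊓ centralizer ({a} : Set G)) ∧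
      Nat.card ↥(QQ a ⊓ centralizer ({z} : Set G)) ≤ 16 := by
  obtain ⟨V, _, _, q, π, act, h⟩ := hp.big.exists_co
  let N : End (ZMod 2) V := act y' + 1
  have eN : ∀ v, N v = act y' v + v := fun _ => rfl
  have eN2 : ∀ v, N (N v) = act a v + v := fun v => by
    rw [eN, eN, map_add, ← h.act_mul' c c, ha.y_sq, add_assoc, v2_add_add]
  have eN4 : ∀ v, N (N (N (N v))) = 0 := fun v => by
    rw [eN2, eN2, map_add, ← h.act_mul' hp.comm hp.comm, hp.sq, h.act_one, End.one_apply,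
      add_comm v, v2_add_self]
  have kA : ∀ x ∈ QQ z, (Commute a x ↔ N (π x) = 0) := fun x hx => by
    rw [eN, v2_add_eq_zero, h.act_eq_iff c hx]
    refine ⟨fun k => Or.inl (cj_of_commute (Commute.symm (cj_eq_self_iff.1 ?_))), fun k => ?_⟩
    · refine (ha.y_norm x k).resolve_right fun l => hp.not_mem ?_
      rw [← mul_inv_eq_iff_eq_mul.2 l,
        show TT.cj x y' * y'⁻¹ = x * TT.cj y' x⁻¹ by simp only [cj_def]; group]
      exact mul_mem hx (h.big.cj_mem c (inv_mem hx))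
    · rw [← cj_eq_self_iff, ← ha.y_sq, ← cj_cj]
      rcases k with k | k
      · rw [k, k]
      · rw [k, cj_mul, k, cj_of_commute c.symm, h.big.es.z_mul_z_mul]
  have kF : ∀ x ∈ QQ z, N (N (π x)) = 0 → N (π x) ≠ 0 → TT.cj a x = z * x := fun x hx k l =>
    ((h.act_eq_iff hp.comm hx).1 (v2_add_eq_zero.1 (eN2 _ ▸ k))).resolve_left
      fun m => l ((kA x hx).1 (cj_eq_self_iff.1 m))
  have j0 : ∀ v w, N (N v) = 0 → N (N w) = 0 → N v ≠ 0 → N w ≠ 0 → N v = N w := fun v w k l k' l' => by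
    obtain ⟨x, hx, rfl⟩ := h.surj v
    obtain ⟨p, hp', rfl⟩ := h.surj w
    have := (kA _ (mul_mem hx hp')).1 (hp.comm_mul hx (kF x hx k k') (kF p hp' l l'))
    rwa [h.mul x hx p hp', map_add, v2_add_eq_zero] at this
  obtain ⟨u, u1, u2⟩ : ∃ u, N (N u) ≠ 0 ∧ N (N (N u)) = 0 := by
    obtain ⟨v, hv⟩ : ∃ v, N (N v) ≠ 0 := by
      by_contra k
      push Not at k
      exact hp.not_mem (h.mem_of_act hp.comm fun v => v2_add_eq_zero.1 (eN2 v ▸ k v))
    by_cases k : N (N (N v)) = 0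
    exacts [⟨v, hv, k⟩, ⟨N v, k, eN4 v⟩]
  have j1 : ∀ w, N (N w) = 0 → N w = 0 ∨ N w = N (N u) := fun w k =>
    (em _).imp_right fun l => j0 w _ k u2 l u1
  obtain ⟨f, hf, ef⟩ := h.surj (N u)
  have hz1 := kF f hf (ef ▸ u2) (ef ▸ u1)
  obtain ⟨e0, he0, ee⟩ := h.surj u
  have n0 : π (cm a e0) = N (N u) := by rw [h.pi_cm hp he0, ee, eN2]
  have yq := hz.y_mem
  have fy : ∀ g, Commute z g → act g (π y) = π y := fun g hg =>
    (h.act_eq_iff hg yq).2 (hz.y_norm g hg)
  refine ⟨?_, ?_, ?_⟩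
  · exact (kA y yq).2 (by rw [eN, fy y' c, v2_add_self])
  · have k1 : Nat.card hp.U ≤ 2 * Nat.card ↥(hp.U ⊓ h.up (LinearMap.ker N)) := by
      have k : ∀ x ∈ hp.U, N (N (π x)) = 0 := fun x hx => by
        rw [eN2, (h.act_eq_iff hp.comm (hp.U_le hx)).2 (hp.U_fix hx), v2_add_self]
      refine card_le_two_mul _ _ fun x hx p hp' k1 k2 =>
        ⟨mul_mem (hp.U_le hx) (inv_mem (hp.U_le hp')), ?_⟩
      rw [LinearMap.mem_ker, h.mul _ (hp.U_le hx) _ (inv_mem (hp.U_le hp')), h.inv (hp.U_le hp'),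
        map_add, j0 _ _ (k x hx) (k p hp') (fun l => k1 ⟨hp.U_le hx, l⟩) fun l => k2 ⟨hp.U_le hp', l⟩,
        v2_add_self]
    have k2 : Nat.card ↥(hp.U ⊓ h.up (LinearMap.ker N)) ≤ 4 := by
      refine card_le_four (x := z) (y := cm a e0) (w := z * cm a e0) fun d hd => ?_
      obtain ⟨w, hw⟩ : ∃ w, π d = N (N w) := by
        obtain ⟨e, he, rfl | rfl⟩ := hd.1
        · exact ⟨π e, by rw [h.pi_cm hp he, eN2]⟩
        · exact ⟨π e, by rw [h.z_mul (hp.cm_mem he), h.pi_cm hp he, eN2]⟩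
      rcases j1 (N w) (hw ▸ hd.2.2) with k | k
      · rcases (h.ker d hd.2.1).1 (hw.trans k) with l | l <;> simp [l]
      · rcases (h.eq_iff hd.2.1 (hp.cm_mem he0)).1 ((hw.trans k).trans n0.symm) with l | l <;> simp [l]
    have := hp.card_A
    nlinarith
  · have ker : ∀ v, act y' v = v → ∃ x ∈ QQ z, Commute a x ∧ π x = v := fun v k => by
      obtain ⟨x, hx, rfl⟩ := h.surj v
      exact ⟨x, hx, (kA x hx).2 (by rw [eN, k, v2_add_self]), rfl⟩
    have d1 : ∀ d ∈ QQ z, d ∈ QQ a → d = 1 := fun d h1 h2 => by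
      obtain ⟨w, hw⟩ := h.mem_range c (v := π d) fun v k => by
        obtain ⟨x, hx, cx, rfl⟩ := ker v k
        exact (h.comm x hx d h1).1 (hp.D_comm h1 h2 hx cx).symm
      refine hp.D_U_of_eps hf hz1 ?_ h2
      rcases j1 w (by rw [eN w, ← hw]; exact (kA d h1).1 (hp.symm.big.comm h2)) with k | k
      · rcases (h.ker d h1).1 (hw.trans k) with rfl | rfl
        exacts [one_mem _, hp.z_mem_U]
      · exact ⟨e0, he0, (h.eq_iff h1 (hp.cm_mem he0)).1 ((hw.trans k).trans n0.symm)⟩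
    set B0 := QQ a ⊓ centralizer ({z} : Set G) ⊓ centralizer ({y'} : Set G) with hB0
    have l0 : Nat.card ↥(QQ a ⊓ centralizer ({z} : Set G)) ≤ 2 * Nat.card B0 :=
      card_le_two_mul _ _ fun x hx p hp' k l => by
        rw [mem_centralizer_singleton] at k l ⊢
        exact (ha.big.es.aes.comm_mul_of_ne hx.1 ((QQ a).inv_mem hp'.1) ha.y_mem (Ne.symm k)
          fun m => l (Commute.inv_left_iff.1 m).symm).symm
    have b0 : ∀ g ∈ B0, Commute z g := fun g hg => mem_centralizer_singleton.1 hg.1.2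
    have b1 : B0 ≤ h.fixS {v | N v = 0} := fun g hg => ⟨b0 g hg, fun v hv => by
      obtain ⟨x, hx, cx, rfl⟩ := ker v (v2_add_eq_zero.1 hv)
      obtain ⟨m1, m2⟩ := hp.comm_mem hx cx hg.1.1 (b0 g hg)
      have e := h.pi_comm hx (b0 g hg)
      rw [d1 _ m1 m2, h.one, eq_comm, v2_add_eq_zero] at e
      exact e.symm⟩
    have b2 : ∀ g ∈ B0, ∀ w, act g (N w) = N w → act g w = w ∨ act g w = w + N (N u) := fun g hg w k => by
      obtain ⟨t, ht⟩ := h.mem_range c (v := act g w + w) fun v k =>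
        h.pol_add_act (b0 g hg) ((b1 hg).2 v (by rw [Set.mem_ofPred_eq, eN, k, v2_add_self])) w
      have e : N (act g w) = act g (N w) := by
        rw [eN, eN, map_add, h.act_comm c (b0 g hg) (mem_centralizer_singleton.1 hg.2)]
      rcases j1 t (by rw [eN t, ← ht, map_add, e, k, v2_add_self]) with l | l
      · exact Or.inl (v2_add_eq_zero.1 (ht.trans l))
      · exact Or.inr (by rw [← l, eN, ← ht, add_comm (act g w), v2_add_add])
    have l1 := h.card_step (M' := {v | N (N v) = 0}) b1 u2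
      (fun g hg w hw => b2 g hg w ((b1 hg).2 _ hw)) fun v hv w hw k l => by
        rw [Set.mem_ofPred_eq, map_add, j0 v w hv hw k l, v2_add_self]
    have l2 := h.card_step (S := B0 ⊓ h.fixS {v | N (N v) = 0}) (M' := {v | N (N (N v)) = 0})
      inf_le_right (n := N (N u)) (eN4 u) (fun g hg w hw => b2 g hg.1 w (hg.2.2 _ hw))
      fun v hv w hw k l => by
        rw [Set.mem_ofPred_eq, map_add, map_add, j0 _ _ hv hw k l, v2_add_self]
    have l3 := h.card_step (S := B0 ⊓ h.fixS {v | N (N v) = 0} ⊓ h.fixS {v | N (N (N v)) = 0})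
      (M' := Set.univ) inf_le_right (n := N (N u)) (eN4 _)
      (fun g hg w _ => b2 g hg.1.1 w (hg.2.2 _ (eN4 w))) fun v _ w _ k l => by
        rw [Set.mem_ofPred_eq, map_add, map_add, map_add, j0 _ _ (eN4 v) (eN4 w) k l, v2_add_self]
    have l4 : B0 ⊓ h.fixS {v | N (N v) = 0} ⊓ h.fixS {v | N (N (N v)) = 0} ⊓ h.fixS Set.univ = ⊥ :=
      eq_bot_iff.2 fun g hg => d1 g (h.mem_of_act hg.2.1 fun v => hg.2.2 v trivial) hg.1.1.1.1.1
    rw [l4, card_bot] at l3
    omega

theorem YH.not_comm (hp : Pr z a) (hz : YH z y) (ha : YH a y') : ¬ Commute z y' := fun c => by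
  obtain ⟨k1, -, k2⟩ := hz.of_comm hp ha c
  have := (ha.of_comm hp.symm hz k1).2.1
  omega

/-- A normal cyclic subgroup of order four excludes commuting conjugates outside `QQ z`. -/
theorem YH.not_pr0 (h : YH z y) : ¬ Pr z a := fun hp => by
  have hz := h
  have inv : ∀ b ∈ Nb z, TT.cj b y = z * y := fun b hb => by
    obtain ⟨_, k⟩ := h.of_isConj hb.1
    exact (hz.y_norm b hb.2.2).resolve_left fun c =>
      k.not_comm (Pr.symm ⟨hp.big, hp.wc, hb⟩) hz (cj_eq_self_iff.1 c)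
  obtain ⟨y', ha⟩ := h.of_isConj hp.nb.1
  have hs := hp.symm
  have iy' : TT.cj z y' = a * y' := (ha.y_norm z hs.comm).resolve_left fun c =>
    hz.not_comm hp ha (cj_eq_self_iff.1 c)
  have iy := inv a hp.nb
  have yq := hz.y_mem
  obtain ⟨V, _, _, q, π, act, k⟩ := hp.big.exists_co
  have cB : ∀ g ∈ QQ a ⊓ centralizer ({z} : Set G), Commute z g := fun g hg =>
    mem_centralizer_singleton.1 hg.2
  have b1 : ∀ g ∈ QQ a ⊓ centralizer ({z} : Set G), ∀ v, act a v = v → act g v = v := fun g hg v hv => by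
    have fy : act g (π y) = π y := (k.act_eq_iff (cB g hg) yq).2 (hz.y_norm g (cB g hg))
    have fa : ∀ x ∈ QQ z, Commute a x → act g (π x) = π x := fun x hx c => by
      obtain ⟨m1, m2⟩ := hp.comm_mem hx c hg.1 (cB g hg)
      have e := k.pi_comm hx (cB g hg)
      rw [hp.D_not_comm_of_eps yq iy m1 m2 ((k.comm y yq _ m1).2 (by
        rw [e, add_comm]; exact k.pol_add_act (cB g hg) fy _)), k.one, eq_comm, v2_add_eq_zero] at e
      exact e.symm
    obtain ⟨x, hx, rfl⟩ := k.surj v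
    rcases (k.act_eq_iff hp.comm hx).1 hv with c | c
    · exact fa x hx (cj_eq_self_iff.1 c)
    · have := fa _ (mul_mem hx yq) (hp.comm_mul hx c iy)
      rwa [k.mul x hx y yq, map_add, fy, add_left_inj] at this
  have b2 : ∀ g ∈ QQ a ⊓ centralizer ({z} : Set G), g * g = 1 := fun g hg =>
    (hs.big.es.sq g hg.1).resolve_right fun c => hp.not_mem (c ▸ k.mem_of_act
      ((cB g hg).mul_right (cB g hg)) fun w => by
        obtain ⟨t, ht⟩ := k.mem_range hp.comm (v := act g w + w) fun v l =>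
          k.pol_add_act (cB g hg) (b1 g hg v l) w
        have := b1 g hg (act g w + w) (by
          rw [ht, map_add, ← k.act_mul' hp.comm hp.comm, hp.sq, k.act_one, End.one_apply, add_comm])
        rw [map_add, add_comm (act g w) w, add_left_inj] at this
        rw [k.act_mul' (cB g hg) (cB g hg), this])
  have n1 := hs.big.card_le_of_comm (P := QQ a ⊓ centralizer ({z} : Set G)) inf_le_left
    ⟨hs.big.z_mem, mem_centralizer_singleton.2 hp.comm⟩ fun x hx p l => comm_of_sq_eq_one b2 hx l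
  have n2 : Nat.card hs.U ≤ 2 * Nat.card ↥(hs.U ⊓ centralizer ({z} : Set G)) :=
    card_le_two_mul _ _ fun x hx p l m m' => by
      rw [mem_centralizer_singleton] at m m' ⊢
      exact hs.comm_mul (hs.U_le hx) ((hs.U_fix hx).resolve_left fun c => m (cj_eq_self_iff.1 c))
        ((hs.U_fix (inv_mem l)).resolve_left fun c =>
          m' (Commute.inv_right_iff.1 (cj_eq_self_iff.1 c)))
  have n3 : Nat.card ↥(hs.U ⊓ centralizer ({z} : Set G)) ≤ 2 := card_le_two (d := a) fun x hx => by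
    have key : ∀ x ∈ hs.U, Commute z x → x ≠ 1 → TT.cj x y = z * y := fun x hx c x1 => by
      obtain ⟨e, he, rfl⟩ : ∃ e ∈ QQ a, x = cm z e := by
        obtain ⟨e, he, rfl | rfl⟩ := hx
        exacts [⟨e, he, rfl⟩, ⟨_, mul_mem he ha.y_mem, hs.z_mul_cm ha.y_mem iy' he⟩]
      have := inv (cm z e * z) ⟨hp.nb.1.trans (hs.isConj_cm e), fun l => x1 (mul_eq_right.1 l),
        c.mul_right (Commute.refl z)⟩
      rwa [← cj_cj, cj_of_commute (hp.big.comm yq)] at this
    by_contra n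
    push Not at n
    have c : Commute z x := mem_centralizer_singleton.1 hx.2
    have := key (a * x) (mul_mem hs.z_mem_U hx.1) (hp.comm.mul_right c) fun l => n.2 (by
      rw [← hs.big.es.z_mul_z_mul x, l, mul_one])
    rw [← cj_cj, key x hx.1 c n.1, cj_mul, iy, cj_of_commute hp.comm.symm, hp.big.es.z_mul_z_mul,
      right_eq_mul] at this
    exact hp.big.ne_one this
  have := hs.card_A
  nlinarith

end Cfsg.Agent.X6
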