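import Mathlib
import Cfsg.Agent.X6.Defs

/-!
The tensor case: a conjugate `b ≠ z` of `z` inside `QQ z`. It lies over a multiple of a real
vector, and `QQ z ⊓ QQ b` and the action of `QQ b ⊓ C(z)` are determined.
-/

set_option autoImplicit false
set_option linter.unusedSectionVars false
set_option linter.unusedVariables false

namespace Cfsg.Agent.X6

open Cfsg.Agent.Spor Cfsg.Agent.Spor.TT Cfsg.Agent.Cl Cfsg.Agent.LX Subgroup

variable {G : Type*} [Group G] [Finite G] {z a b e r g : G} {π : G → V4} {act : G → V4 → V4}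
  {u v w x p t : V4}

/-! ### Real vectors -/

theorem re_dual (hl : Pl x p) (hx : Re4 x) (hp : Re4 p) {c d : F4} (hc : s4 c = c) (hd : s4 d = d) :
    ∃ w, Re4 w ∧ B4 w x = c ∧ B4 w p = d := by
  have k : ∀ a b c : F4, s4 a = a → s4 b = b → s4 c = c → a + om * b = c → a = c := by decide
  obtain ⟨w, h1, h2⟩ := hl.dual c d
  obtain ⟨s, t, hs, ht, rfl⟩ := exists_re w
  rw [B4_re] at h1 h2
  exact ⟨s, hs, k _ _ _ (hs.B_fix hx) (ht.B_fix hx) hc h1, k _ _ _ (hs.B_fix hp) (ht.B_fix hp) hd h2⟩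

theorem re_coef (hl : Pl x p) (hx : Re4 x) (hp : Re4 p) {c d : F4} (h : Re4 (c • x + d • p)) :
    s4 c = c ∧ s4 d = d := by
  obtain ⟨w, hw, h1, h2⟩ := re_dual hl hx hp (map_one _) (map_zero _)
  obtain ⟨w', hw', h3, h4⟩ := re_dual hl hx hp (map_zero _) (map_one _)
  have k1 := h.B_fix hw
  have k2 := h.B_fix hw'
  rw [B4_al, B4_sl, B4_sl, hx.B_symm hw, hp.B_symm hw, h1, h2, mul_one, mul_zero, add_zero] at k1
  rw [B4_al, B4_sl, B4_sl, hx.B_symm hw', hp.B_symm hw', h3, h4, mul_one, mul_zero, zero_add] at k2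
  exact ⟨k1, k2⟩

theorem re_plane (hl : Pl x p) (hx : Re4 x) (hp : Re4 p) (ht : Re4 t) (h1 : B4 t x = 0)
    (h2 : B4 t p = 0) : t = 0 ∨ t = x ∨ t = p ∨ t = x + p := by
  obtain ⟨c, d, rfl⟩ := hl.mem h1 h2
  obtain ⟨k1, k2⟩ := re_coef hl hx hp ht
  rcases f4_fixed _ k1 with rfl | rfl <;> rcases f4_fixed _ k2 with rfl | rfl <;> simp

theorem re_line (hx : Re4 x) (x0 : x ≠ 0) {c : F4} (h : Re4 (c • x)) : c • x = 0 ∨ c • x = x := by
  rcases f4_fixed _ (hx.of_smul x0 h) with rfl | rfl <;> simp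

theorem add_hm (x p : V4) (κ : F4 × F4 × F4) (w : V4) : w + hm x p κ w =
    (B4 w x * κ.1 + B4 w p * s4 κ.2.2) • x + (B4 w x * κ.2.2 + B4 w p * κ.2.1) • p := by
  rw [hm, ← add_assoc, v4_add_self, zero_add]

theorem hm_real (hl : Pl x p) (hx : Re4 x) (hp : Re4 p) {κ : F4 × F4 × F4}
    (k : ∀ w, Re4 w → Re4 (hm x p κ w)) : s4 κ.2.2 = κ.2.2 := by
  obtain ⟨w, hw, h1, h2⟩ := re_dual hl hx hp (map_one _) (map_zero _)
  have := (re_coef hl hx hp (add_hm x p κ w ▸ hw.add (k w hw))).2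
  rwa [h1, h2, one_mul, zero_mul, add_zero] at this

/-! ### A conjugate inside `QQ z` -/

/-- `b ≠ z` is a conjugate of `z` in `QQ z`. -/
structure Sg (z b : G) : Prop where
  big : Big z
  conj : IsConj z b
  mem : b ∈ QQ z
  ne : b ≠ z

/-- The image of `QQ z ⊓ QQ b`. -/
def MM (π : G → V4) (z b : G) (u : V4) : Prop := ∃ e ∈ QQ z ⊓ QQ b, π e = u

namespace Sg

theorem big' (s : Sg z b) : Big b := s.big.of_isConj s.conj

theorem zq (s : Sg z b) : z ∈ QQ b := s.big.symm s.conj s.mem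

theorem E_sq (s : Sg z b) : ∀ q ∈ QQ z ⊓ QQ b, q * q = 1 := fun q k =>
  (s.big.es.sq q k.1).resolve_right fun c =>
    (s.big'.es.sq q k.2).elim (fun d => s.big.ne_one (c.symm.trans d)) fun d => s.ne (d.symm.trans c)

theorem E_comm (s : Sg z b) : ∀ x ∈ QQ z ⊓ QQ b, ∀ y ∈ QQ z ⊓ QQ b, x * y = y * x :=
  fun _ hx _ hy => comm_of_sq_eq_one s.E_sq hx hy

theorem card_E (s : Sg z b) : Nat.card ↥(QQ z ⊓ QQ b) ≤ 32 :=
  s.big.card_le_of_comm inf_le_left ⟨s.big.z_mem, s.zq⟩ s.E_comm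

theorem sq_mem (s : Sg z b) (hr : r ∈ QQ b) : r * r ∈ QQ z :=
  (s.big'.es.sq r hr).elim (fun e => e ▸ one_mem _) fun e => e ▸ s.mem

theorem comm_of_fix (s : Sg z b) (hr : r ∈ QQ b) (he : e ∈ QQ b)
    (k : TT.cj r e = e ∨ TT.cj r e = z * e) : Commute r e := by
  rcases k with k | k
  · exact cj_eq_self_iff.1 k
  · rcases s.big'.es.aes.conj_eq hr he with e' | e'
    · exact cj_eq_self_iff.1 e'
    · exact absurd (mul_right_cancel (e'.symm.trans k)) s.ne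

theorem cj (s : Sg z b) (hg : Commute z g) : Sg z (TT.cj g b) :=
  ⟨s.big, s.conj.trans (TT.isConj_cj g b), s.big.cj_mem hg s.mem, fun e =>
    s.ne (cj_injective g (e.trans (cj_of_commute hg.symm).symm))⟩

theorem exists_z_mul (s : Sg z b) : ∃ q ∈ QQ z, TT.cj q b = z * b := by
  obtain ⟨q, hq, n⟩ := s.big.es.exists_not_comm s.mem s.big'.ne_one s.ne
  exact ⟨q, hq, s.big.es.aes.conj_of_ne hq s.mem fun c => n c.symm⟩

theorem iso (s : Sg z b) (h : UCo0 z π act) : Iso4 (π b) :=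
  ⟨fun c => ((h.ker b s.mem).1 c).elim s.big'.ne_one s.ne, (h.sq b s.mem).1 s.big'.sq⟩

theorem card_R1 (s : Sg z b) (h : UCo0 z π act) : 128 ≤ Nat.card ↥(QQ b ⊓ h.linS) := by
  have nR := s.big'.es.card_centralizer_mul_two s.zq h.big.ne_one s.ne.symm
  rw [s.big'.card] at nR
  have nR1 := h.card_lin (S := QQ b ⊓ centralizer ({z} : Set G)) fun g hg =>
    mem_centralizer_singleton.1 hg.2
  have := card_mono (S := QQ b ⊓ centralizer ({z} : Set G) ⊓ h.linS) (T := QQ b ⊓ h.linS)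
    fun g hg => ⟨hg.1.1, hg.2⟩
  omega

theorem m0 (s : Sg z b) : MM π z b (π b) := ⟨b, ⟨s.mem, s.big'.z_mem⟩, rfl⟩

theorem act_b (s : Sg z b) (h : UCo0 z π act) (hr : r ∈ QQ b) (hz : Commute z r) :
    act r (π b) = π b :=
  (h.act_eq_iff hz s.mem).2 (Or.inl (cj_of_commute (s.big'.comm hr).symm))

theorem m_r (s : Sg z b) (h : UCo0 z π act) (hr : r ∈ QQ b) (hz : Commute z r)
    (hw : LX.tr4 (π b) w = 0) : MM π z b (w + act r w) := by
  obtain ⟨x, hx, rfl⟩ := h.surj w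
  have c : Commute b x := (h.commute_iff s.mem hx).2 hw
  refine ⟨_, mem_inf.2 ⟨mul_mem hx (h.big.cj_mem hz (inv_mem hx)), ?_⟩, h.pi_comm hx hz⟩
  rw [show x * TT.cj r x⁻¹ = TT.cj x r * r⁻¹ by simp only [cj_def]; group]
  exact mul_mem (s.big'.cj_mem c hr) (inv_mem hr)

theorem m_act (s : Sg z b) (h : UCo0 z π act) (hr : r ∈ QQ b) (hz : Commute z r)
    (hu : MM π z b u) : act r u = u ∨ act r u = π b + u := by
  obtain ⟨e, he, rfl⟩ := hu
  rw [← h.conj r hz e he.1]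
  refine (s.big'.es.aes.conj_eq hr he.2).imp (fun k => congrArg π k) fun k => ?_
  rw [cj_def, k, h.mul b s.mem e he.1]

end Sg

theorem MM.zero (h : UCo0 z π act) : MM π z b 0 := ⟨1, one_mem _, h.one⟩

theorem MM.add (h : UCo0 z π act) : MM π z b u → MM π z b v → MM π z b (u + v) := by
  rintro ⟨p, hp, rfl⟩ ⟨q, k, rfl⟩
  exact ⟨p * q, mul_mem hp k, h.mul p hp.1 q k.1⟩

theorem MM.tr (s : Sg z b) (h : UCo0 z π act) : MM π z b u → MM π z b v → LX.tr4 u v = 0 := by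
  rintro ⟨p, hp, rfl⟩ ⟨q, k, rfl⟩
  exact (h.commute_iff hp.1 k.1).1 (s.E_comm p hp q k)

theorem MM.mem (s : Sg z b) (h : UCo0 z π act) (he : e ∈ QQ z) (k : MM π z b (π e)) : e ∈ QQ b := by
  obtain ⟨p, hp, k⟩ := k
  rcases (h.eq_iff hp.1 he).1 k with rfl | k
  · exact hp.2
  · rw [← h.big.es.z_mul_z_mul e, ← k]
    exact mul_mem s.zq hp.2

/-- The linear part of `QQ b ⊓ C(z)` fixes at most four vectors of the image of `QQ z ⊓ QQ b`. -/
theorem Sg.three (s : Sg z b) (h : UCo0 z π act) (hu : MM π z b u) (hv : MM π z b v)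
    (k : ∀ r ∈ QQ b ⊓ h.linS, act r u = u ∧ act r v = v) (u0 : u ≠ 0) (u1 : u ≠ π b) (v0 : v ≠ 0)
    (v1 : v ≠ π b) (v2 : v ≠ u) (v3 : v ≠ u + π b) : False := by
  classical
  let P := QQ z ⊓ QQ b ⊓ centralizer ((QQ b ⊓ h.linS : Subgroup G) : Set G)
  let S : Set V4 := {t | MM π z b t ∧ ∀ r ∈ QQ b ⊓ h.linS, act r t = t}
  have e1 : Nat.card P = 2 * S.ncard := h.card_eq fun e => ⟨fun he => ⟨he.1.1, ⟨e, he.1, rfl⟩,
      fun r hr => (h.act_eq_iff hr.2.1 he.1.1).2 (Or.inl (cj_of_commute (he.2 r hr)))⟩,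
    fun ⟨h1, h2, h3⟩ => ⟨⟨h1, h2.mem s h h1⟩, fun r hr => s.comm_of_fix hr.1 (h2.mem s h h1)
      ((h.act_eq_iff hr.2.1 h1).1 (h3 r hr))⟩⟩
  have b0 := (s.iso h).1
  have e2 : 5 ≤ S.ncard := by
    have sub : (({0, π b, u, u + π b, v} : Finset V4) : Set V4) ⊆ S := fun t ht => by
      simp only [Finset.coe_insert, Finset.coe_singleton, Set.mem_insert_iff,
        Set.mem_singleton_iff] at ht
      rcases ht with rfl | rfl | rfl | rfl | rfl
      · exact ⟨MM.zero h, fun r hr => h.act_zero hr.2.1⟩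
      · exact ⟨s.m0, fun r hr => s.act_b h hr.1 hr.2.1⟩
      · exact ⟨hu, fun r hr => (k r hr).1⟩
      · exact ⟨hu.add h s.m0, fun r hr => by
          rw [h.act_add hr.2.1, (k r hr).1, s.act_b h hr.1 hr.2.1]⟩
      · exact ⟨hv, fun r hr => (k r hr).2⟩
    have := Set.ncard_le_ncard sub (Set.toFinite _)
    rwa [Set.ncard_coe_finset, Finset.card_insert_of_notMem (by
        simp [b0.symm, u0.symm, v0.symm, Ne.symm (mt v4_add_eq_zero.1 u1)]),
      Finset.card_insert_of_notMem (by simp [u1.symm, v1.symm, u0]),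
      Finset.card_insert_of_notMem (by simp [b0, v2.symm]), Finset.card_pair v3.symm] at this
  have e3 := s.big'.es.card_mul_card_centralizer (A := P) (fun e he => he.1.2)
    ⟨⟨s.mem, s.big'.z_mem⟩, fun r hr => (s.big'.comm hr.1).symm⟩
  have e4 : Nat.card ↥(QQ b ⊓ h.linS) ≤ Nat.card ↥(QQ b ⊓ centralizer (P : Set G)) :=
    card_mono fun r hr => ⟨hr.1, fun e he => (he.2 r hr).symm⟩
  have e5 := s.card_R1 h
  rw [s.big'.card] at e3
  nlinarith

theorem Sg.exists_out (s : Sg z b) (h : UCo0 z π act) : ∃ r ∈ QQ b ⊓ h.linS, r ∉ QQ z := by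
  by_contra k
  push Not at k
  have k1 : Nat.card ↥(QQ b ⊓ h.linS) ≤ Nat.card ↥(QQ z ⊓ QQ b) := card_mono fun r hr => ⟨k r hr, hr.1⟩
  have := s.card_E
  have := s.card_R1 h
  omega

theorem Sg.re (s : Sg z b) (h : TCo z π act) (hr : r ∈ QQ b ⊓ h.linS) (hp : Re4 p) :
    Re4 (act r p) := h.re_of_sq hr.2.1 hr.2.2 (s.sq_mem hr.1) hp

/-- A conjugate of `z` in `QQ z` lies over a multiple of a real vector. -/
theorem Sg.pure (s : Sg z b) (h : TCo z π act) : ∃ c : F4, ∃ x, c ≠ 0 ∧ Re4 x ∧ π b = c • x := by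
  obtain ⟨x, p, hx, hp, e⟩ := exists_re (π b)
  by_contra n
  have x0 : x ≠ 0 := fun k => n ⟨om, p, by decide, hp, by rw [e, k, zero_add]⟩
  have p0 : p ≠ 0 := fun k => n ⟨1, x, by decide, hx, by rw [e, k, smul_zero, add_zero, one_smul]⟩
  have xp : x ≠ p := fun k => n ⟨1 + om, p, by decide, hp, by rw [e, k, add_smul, one_smul]⟩
  have hB : B4 x p = 0 := by
    have k : ∀ a : F4, 0 + s4 om * a + om * (a + s4 om * 0) = 0 → a = 0 := by decide
    have := (s.iso h.toUCo0).2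
    rw [e, B4_re, B4_ar, B4_ar, B4_sr, B4_sr, hx.B_self, hp.B_self, hp.B_symm hx] at this
    exact k _ this
  have hl := hx.pl hp x0 p0 xp hB
  have fx : ∀ r ∈ QQ b ⊓ h.linS, ∀ c d : F4, act r (c • x + d • p) = c • x + d • p := fun r hr c d => by
    have k := s.act_b h.toUCo0 hr.1 hr.2.1
    rw [e, h.act_add hr.2.1, hr.2.2] at k
    obtain ⟨k1, k2⟩ := re_inj (s.re h hr hx) (s.re h hr hp) hx hp k
    rw [h.act_add hr.2.1, hr.2.2, hr.2.2, k1, k2]
  obtain ⟨r, hr, nr⟩ := s.exists_out h.toUCo0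
  obtain ⟨κ, hκ, ek⟩ := h.fix_hm hl hr.2.1 (fx r hr)
  have k0 : κ ≠ 0 := fun c => nr (h.mem_of_act hr.2.1 fun w => by rw [ek, c, hm_zero])
  have key : ∀ κ : F4 × F4 × F4, Herm κ → s4 κ.2.2 = κ.2.2 → κ ≠ 0 → ∃ c d c' d' : F4,
      s4 (c + s4 om * d) + (c + s4 om * d) = 0 ∧ s4 (c' + s4 om * d') + (c' + s4 om * d') = 0 ∧
      let A := (c * κ.1 + d * s4 κ.2.2, c * κ.2.2 + d * κ.2.1)
      let A' := (c' * κ.1 + d' * s4 κ.2.2, c' * κ.2.2 + d' * κ.2.1)
      A ≠ (0, 0) ∧ A ≠ (1, om) ∧ A' ≠ (0, 0) ∧ A' ≠ (1, om) ∧ A' ≠ A ∧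
        A' ≠ (A.1 + 1, A.2 + om) := by decide +kernel
  obtain ⟨c, d, c', d', t1, t2, n1, n2, n3, n4, n5, n6⟩ := key κ hκ
    (hm_real hl hx hp fun w hw => ek w ▸ s.re h hr hw) k0
  have mk : ∀ c d : F4, s4 (c + s4 om * d) + (c + s4 om * d) = 0 → MM π z b
      ((c * κ.1 + d * s4 κ.2.2) • x + (c * κ.2.2 + d * κ.2.1) • p) := fun c d k => by
    obtain ⟨w, h1, h2⟩ := hl.dual c d
    have := s.m_r h.toUCo0 hr.1 hr.2.1 (w := w) (by
      rw [LX.tr4, ← B4_symm w, e, B4_ar, B4_sr, h1, h2, k])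
    rwa [ek, add_hm, h1, h2] at this
  have e' : π b = (1 : F4) • x + om • p := by rw [e, one_smul]
  have z0 : (0 : V4) = (0 : F4) • x + (0 : F4) • p := by simp
  refine s.three h.toUCo0 (mk c d t1) (mk c' d' t2) (fun r hr => ⟨fx r hr _ _, fx r hr _ _⟩)
    (fun k => n1 (Prod.ext_iff.2 (hl.inj (k.trans z0)))) (fun k => n2 (Prod.ext_iff.2 (hl.inj (k.trans e'))))
    (fun k => n3 (Prod.ext_iff.2 (hl.inj (k.trans z0)))) (fun k => n4 (Prod.ext_iff.2 (hl.inj (k.trans e'))))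
    (fun k => n5 (Prod.ext_iff.2 (hl.inj k))) fun k => n6 (Prod.ext_iff.2 (hl.inj (k.trans ?_)))
  rw [e', add_smul _ (1 : F4), add_smul _ om]
  abel

/-! ### A conjugate over a real vector -/

/-- A conjugate `b` over the real vector `x`, with a real vector `w` not orthogonal to `x`. -/
structure Sx (z b : G) (π : G → V4) (act : G → V4 → V4) (x w : V4) : Prop where
  co : TCo z π act
  sg : Sg z b
  hx : Re4 x
  eq : π b = x
  hw : Re4 w
  B : B4 w x = 1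

namespace Sx

theorem x0 (s : Sx z b π act x w) : x ≠ 0 := s.eq ▸ (s.sg.iso s.co.toUCo0).1

theorem m_re (s : Sx z b π act x w) (hr : r ∈ QQ b ⊓ s.co.linS) (ht : Re4 t) :
    MM π z b (t + act r t) :=
  s.sg.m_r s.co.toUCo0 hr.1 hr.2.1 (by
    have := tr4_re s.hx ht re4_zero
    rwa [smul_zero, add_zero, map_zero, LinearMap.zero_apply, ← s.eq] at this)

theorem m_im (s : Sx z b π act x w) (hr : r ∈ QQ b ⊓ s.co.linS) (ht : Re4 t) (hB : B4 t x = 0) :
    MM π z b (om • (t + act r t)) := by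
  rw [smul_add, ← hr.2.2]
  exact s.sg.m_r s.co.toUCo0 hr.1 hr.2.1 (by
    have := tr4_re s.hx re4_zero ht
    rwa [zero_add, hB, ← s.eq] at this)

theorem fix (s : Sx z b π act x w) (hr : r ∈ QQ b ⊓ s.co.linS) (c : F4) : act r (c • x) = c • x := by
  rw [hr.2.2, ← s.eq, s.sg.act_b s.co.toUCo0 hr.1 hr.2.1]

theorem perp_re (s : Sx z b π act x w) (hr : r ∈ QQ b ⊓ s.co.linS) (ht : Re4 t) (hB : B4 t x = 0) :
    t + act r t = 0 ∨ t + act r t = x := by
  by_contra n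
  push Not at n
  have hu := ht.add (s.sg.re s.co hr ht)
  have m1 := s.m_re hr ht
  have m2 := s.m_im hr ht hB
  generalize t + act r t = u at n hu m1 m2
  have nr : ∀ y, Re4 y → om • u ≠ y := fun y hy k => n.1 (hu.eq_zero (k ▸ hy))
  refine s.sg.three s.co.toUCo0 m1 m2 (fun r hr => ?_) n.1 (s.eq ▸ n.2) (nr _ re4_zero)
    (s.eq ▸ nr _ s.hx) (nr _ hu) (s.eq ▸ nr _ (hu.add s.hx))
  have k : act r u = u := by
    rcases s.sg.m_act s.co.toUCo0 hr.1 hr.2.1 m2 with k | k <;> rw [hr.2.2] at k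
    · exact smul_right_injective V4 (by decide) k
    · rw [s.eq] at k
      exact absurd (re_inj re4_zero (s.sg.re s.co hr hu) s.hx hu ((zero_add _).trans k)).1 s.x0.symm
  exact ⟨k, by rw [hr.2.2, k]⟩

theorem eich (s : Sx z b π act x w) (hr : r ∈ QQ b ⊓ s.co.linS) :
    B4 (w + act r w) x = 0 ∧ ∀ y, B4 y x = 0 → act r y = y + B4 y (w + act r w) • x := by
  refine s.co.eich hr.2 (s.eq ▸ s.sg.iso s.co.toUCo0) s.B (by simpa using s.fix hr 1) fun y hy => ?_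
  obtain ⟨p, t, hp, ht, rfl⟩ := exists_re y
  have k : ∀ a b : F4, s4 a = a → s4 b = b → a + om * b = 0 → a = 0 ∧ b = 0 := by decide
  obtain ⟨k1, k2⟩ := k _ _ (hp.B_fix s.hx) (ht.B_fix s.hx) (B4_re ▸ hy)
  have e : p + om • t + act r (p + om • t) = (p + act r p) + om • (t + act r t) := by
    rw [s.co.act_add hr.2.1, hr.2.2, smul_add]; abel
  rw [e]
  rcases s.perp_re hr hp k1 with e1 | e1 <;> rcases s.perp_re hr ht k2 with e2 | e2 <;> rw [e1, e2]
  exacts [⟨0, by simp⟩, ⟨om, by simp⟩, ⟨1, by simp⟩, ⟨1 + om, by rw [add_smul, one_smul]⟩]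

theorem k_re (s : Sx z b π act x w) (hr : r ∈ QQ b ⊓ s.co.linS) : Re4 (w + act r w) :=
  s.hw.add (s.sg.re s.co hr s.hw)

theorem k_mul (s : Sx z b π act x w) (hr : r ∈ QQ b ⊓ s.co.linS) {r' : G}
    (hr' : r' ∈ QQ b ⊓ s.co.linS) : w + act (r * r') w = (w + act r w) + (w + act r' w) +
      B4 (w + act r' w) (w + act r w) • x := by
  have := (s.eich hr).2 _ (s.eich hr').1
  rw [s.co.act_add hr.2.1, ← s.co.act_mul hr.2.1 hr'.2.1] at this
  rw [eq_of_add_eq this]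
  abel

theorem act_eq (s : Sx z b π act x w) (hr : r ∈ QQ b ⊓ s.co.linS) (y : V4) :
    act r y = y + B4 y x • (w + act r w) + B4 (y + B4 y x • w) (w + act r w) • x := by
  have hw : B4 (y + B4 y x • w) x = 0 := by rw [B4_al, B4_sl, s.B, mul_one, f4_add_self]
  have k1 := (s.eich hr).2 _ hw
  rw [s.co.act_add hr.2.1, hr.2.2, add_comm] at k1
  rw [eq_of_add_eq k1, smul_add]
  abel

theorem k_inj (s : Sx z b π act x w) (hr : r ∈ QQ b ⊓ s.co.linS) {r' : G}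
    (hr' : r' ∈ QQ b ⊓ s.co.linS) (e : w + act r w = w + act r' w) : r * r'⁻¹ ∈ QQ z :=
  s.co.mul_inv_mem hr.2.1 hr'.2.1 fun y => by rw [s.act_eq hr, s.act_eq hr', e]

/-- Two elements whose vectors are not orthogonal. -/
theorem exists_two (s : Sx z b π act x w) : MM π z b (om • x) ∧ ∃ r ∈ QQ b ⊓ s.co.linS,
    ∃ r' ∈ QQ b ⊓ s.co.linS, B4 (w + act r w) (w + act r' w) = 1 := by
  classical
  obtain ⟨r, hr, n⟩ : ∃ r ∈ QQ b ⊓ s.co.linS, w + act r w ≠ 0 ∧ w + act r w ≠ x := by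
    by_contra n
    push Not at n
    have k := card_le_mul_of_fiber (QQ b ⊓ s.co.linS) (QQ z ⊓ QQ b) (fun r => w + act r w) {0, x}
      (fun r hr => by simpa using or_iff_not_imp_left.2 (n r hr))
      fun r hr r' hr' e => ⟨s.k_inj hr hr' e, (QQ b).mul_mem hr.1 ((QQ b).inv_mem hr'.1)⟩
    have := s.sg.card_E
    have := s.sg.card_R1 s.co.toUCo0
    have := Finset.card_le_two (a := (0 : V4)) (b := x)
    nlinarith
  have hu := s.k_re hr
  have hl := s.hx.pl hu s.x0 n.1 n.2.symm (B4_comm.1 (s.eich hr).1)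
  obtain ⟨t, ht, t1, t2⟩ := re_dual hl s.hx hu (map_zero _) (map_one _)
  have m1 : MM π z b (om • x) := by
    have := s.m_im hr ht t1
    rwa [(s.eich hr).2 t t1, t2, one_smul, ← add_assoc, v4_add_self, zero_add] at this
  refine ⟨m1, r, hr, ?_⟩
  by_contra k
  push Not at k
  have nr : ∀ y, Re4 y → om • x ≠ y := fun y hy k => s.x0 (s.hx.eq_zero (k ▸ hy))
  refine s.sg.three s.co.toUCo0 (s.m_re hr s.hw) m1 (fun r' hr' => ⟨?_, s.fix hr' om⟩) n.1
    (s.eq ▸ n.2) (nr _ re4_zero) (s.eq ▸ nr _ s.hx) (nr _ hu) (s.eq ▸ nr _ (hu.add s.hx))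
  rw [(s.eich hr').2 _ (s.eich hr).1, (hu.B_cases (s.k_re hr')).resolve_right (k r' hr'), zero_smul,
    add_zero]

theorem line (hx : Re4 x) (x0 : x ≠ 0) (hu : Re4 u) (hv : Re4 v) (ht : Re4 t) (h1 : B4 u x = 0)
    (h2 : B4 v x = 0) (h3 : B4 u v = 1) (k1 : B4 t x = 0) (k2 : B4 t u = 0) (k3 : B4 t v = 0) :
    t = 0 ∨ t = x := by
  have u0 : u ≠ 0 := fun e => by simp [e] at h3
  have xu : x ≠ u := fun e => by
    rw [← e, B4_comm.1 h2] at h3
    exact zero_ne_one h3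
  rcases re_plane (hx.pl hu x0 u0 xu (B4_comm.1 h1)) hx hu ht k1 k2 with e | e | e | e
  exacts [Or.inl e, Or.inr e, absurd (k3.symm.trans (e ▸ h3)) zero_ne_one, by
    rw [e, B4_al, B4_comm.1 h2, h3] at k3
    exact absurd k3 (by decide)]

/-- The image of `QQ z ⊓ QQ b`. -/
theorem mm_iff (s : Sx z b π act x w) (hp : Re4 p) (ht : Re4 t) :
    MM π z b (p + om • t) ↔ B4 p x = 0 ∧ (t = 0 ∨ t = x) := by
  obtain ⟨m1, r, hr, r', hr', e⟩ := s.exists_two
  have h := s.co.toUCo0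
  have hu := s.k_re hr
  have hv := s.k_re hr'
  have u1 := (s.eich hr).1
  have v1 := (s.eich hr').1
  have m2 := s.m_re hr s.hw
  have m3 := s.m_re hr' s.hw
  have m0 : MM π z b x := s.eq ▸ s.sg.m0
  generalize w + act r w = u at *
  generalize w + act r' w = v at *
  refine ⟨fun m => ⟨?_, line s.hx s.x0 hu hv ht u1 v1 e ((tr4_re s.hx hp ht).symm.trans (m0.tr s.sg h m))
    ((tr4_re hu hp ht).symm.trans (m2.tr s.sg h m)) ((tr4_re hv hp ht).symm.trans (m3.tr s.sg h m))⟩,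
    fun ⟨k1, k2⟩ => ?_⟩
  · have k : ∀ a b : F4, s4 a = a → s4 b = b →
        s4 om * (a + om * b) + om * s4 (a + om * b) = 0 → a = 0 := by decide
    have := m.tr s.sg h m1
    rw [LX.tr4, B4_sr, B4_sl, ← B4_symm _ x, B4_re] at this
    exact k _ _ (hp.B_fix s.hx) (ht.B_fix s.hx) this
  · have sm : ∀ c : F4, s4 c = c → ∀ y, MM π z b y → MM π z b (c • y) := fun c hc y hy => by
      rcases f4_fixed c hc with rfl | rfl
      · rw [zero_smul]; exact MM.zero h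
      · rwa [one_smul]
    have m4 := (sm _ (hp.B_fix hv) u m2).add h (sm _ (hp.B_fix hu) v m3)
    have m5 : MM π z b p := by
      have hq := hp.add ((hu.smul (hp.B_fix hv)).add (hv.smul (hp.B_fix hu)))
      have k := line s.hx s.x0 hu hv hq u1 v1 e (by simp [k1, u1, v1])
        (by rw [B4_al, B4_al, B4_sl, B4_sl, hu.B_self, hv.B_symm hu, e]; simp [f4_add_self])
        (by rw [B4_al, B4_al, B4_sl, B4_sl, hv.B_self, e]; simp [f4_add_self])
      rcases k with k | k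
      · rwa [v4_add_eq_zero.1 k]
      · rw [add_comm] at k
        rw [eq_of_add_eq k]
        exact m4.add h m0
    rcases k2 with rfl | rfl
    · rwa [smul_zero, add_zero]
    · exact m5.add h m1

theorem card_E (s : Sx z b π act x w) : 32 ≤ Nat.card ↥(QQ z ⊓ QQ b) := by
  have h := s.co.toUCo0
  by_contra n
  have k := s.sg.big.es.card_mul_card_centralizer (A := QQ z ⊓ QQ b) inf_le_left
    ⟨s.sg.big.z_mem, s.sg.zq⟩
  have k2 : QQ z ⊓ centralizer ((QQ z ⊓ QQ b : Subgroup G) : Set G) ≤ QQ z ⊓ QQ b := fun f hf => by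
    refine ⟨hf.1, MM.mem s.sg h hf.1 ?_⟩
    have tr : ∀ y, MM π z b y → LX.tr4 y (π f) = 0 := by
      rintro _ ⟨e, he, rfl⟩
      exact (h.commute_iff he.1 hf.1).1 (hf.2 e he)
    obtain ⟨p, t, hp, ht, e⟩ := exists_re (π f)
    rw [e] at tr ⊢
    have m : ∀ y, Re4 y → B4 y x = 0 → B4 t y = 0 := fun y hy k => by
      rw [← tr4_re hy hp ht]
      refine tr y ?_
      have := (s.mm_iff hy re4_zero).2 ⟨k, Or.inl rfl⟩
      rwa [smul_zero, add_zero] at this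
    obtain ⟨m1, r, hr, r', hr', e⟩ := s.exists_two
    refine (s.mm_iff hp ht).2 ⟨?_, line s.hx s.x0 (s.k_re hr) (s.k_re hr') ht (s.eich hr).1
      (s.eich hr').1 e (m x s.hx s.hx.B_self) (m _ (s.k_re hr) (s.eich hr).1)
      (m _ (s.k_re hr') (s.eich hr').1)⟩
    have k : ∀ a b : F4, s4 a = a → s4 b = b →
        om * s4 (a + om * b) + s4 om * (a + om * b) = 0 → a = 0 := by decide
    have := tr _ m1
    rw [LX.tr4, B4_sr, B4_sl, ← B4_symm _ x, B4_re] at this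
    exact k _ _ (hp.B_fix s.hx) (ht.B_fix s.hx) this
  have k3 := card_mono k2
  rw [s.sg.big.card] at k
  nlinarith

theorem mem_of_k (s : Sx z b π act x w) (hr : r ∈ QQ b ⊓ s.co.linS)
    (k : w + act r w = 0 ∨ w + act r w = x) : r ∈ QQ z := by
  refine (s.sg.big'.mem_of_card inf_le_right ⟨s.sg.mem, s.sg.big'.z_mem⟩ s.sg.E_comm s.card_E hr.1
    fun e he => (s.sg.comm_of_fix hr.1 he.2 ((s.co.act_eq_iff hr.2.1 he.1).1 ?_)).symm).1
  obtain ⟨p, t, hp, ht, e1⟩ := exists_re (π e)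
  obtain ⟨k1, k2⟩ := (s.mm_iff hp ht).1 (e1 ▸ ⟨e, he, rfl⟩)
  have k3 : B4 (π e) x = 0 := by
    rw [e1, B4_re, k1]
    rcases k2 with rfl | rfl
    · simp
    · rw [ht.B_self]; simp
  rw [(s.eich hr).2 _ k3]
  rcases k with k | k <;> rw [k]
  · simp
  · rw [k3, zero_smul, add_zero]

theorem hm_of_k (s : Sx z b π act x w) (hr : r ∈ QQ b ⊓ s.co.linS) (e : w + act r w = p)
    (hB : B4 w p = 1) (y : V4) : act r y = hm x p (1, 0, 1) y := by
  rw [s.act_eq hr, e, hm, B4_al, B4_sl, hB]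
  simp only [map_one, mul_one, mul_zero, add_zero]
  rw [add_comm (B4 y p)]
  abel

/-- An element acting as a non-alternating involution of rank two. -/
theorem exists_n (s : Sx z b π act x w) : ∃ p, Re4 p ∧ Pl x p ∧ ∃ n ∈ QQ b ⊓ s.co.linS,
    ∀ y, act n y = hm x p (1, 0, 1) y := by
  obtain ⟨-, r, hr, r', hr', e⟩ := s.exists_two
  have key : ∀ n ∈ QQ b ⊓ s.co.linS, (∃ n' ∈ QQ b ⊓ s.co.linS, B4 (w + act n w) (w + act n' w) = 1) →
      B4 w (w + act n w) = 1 → ∃ p, Re4 p ∧ Pl x p ∧ ∃ n ∈ QQ b ⊓ s.co.linS,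
      ∀ y, act n y = hm x p (1, 0, 1) y := fun n hn ⟨n', hn', k⟩ k1 =>
    ⟨_, s.k_re hn, s.hx.pl (s.k_re hn) s.x0 (fun c => by simp [c] at k) (fun c => by
      rw [← c, B4_comm.1 (s.eich hn').1] at k
      exact zero_ne_one k) (B4_comm.1 (s.eich hn).1), n, hn, s.hm_of_k hn rfl k1⟩
  have e' := ((s.k_re hr').B_symm (s.k_re hr)).trans e
  rcases s.hw.B_cases (s.k_re hr) with c | c
  · rcases s.hw.B_cases (s.k_re hr') with c' | c'
    · refine key (r * r') (mul_mem hr hr') ⟨r, hr, ?_⟩ ?_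
      · rw [s.k_mul hr hr', B4_al, B4_al, B4_sl, (s.k_re hr).B_self, e', B4_comm.1 (s.eich hr).1]
        simp
      · rw [s.k_mul hr hr', B4_ar, B4_ar, B4_sr, c, c', e', s.B]
        simp
    · exact key r' hr' ⟨r, hr, e'⟩ c'
  · exact key r hr ⟨r', hr', e⟩ c

/-- The elements of `QQ b ⊓ C(z)` fixing `x`, `ω x` and `p`. -/
theorem fix_cases (s : Sx z b π act x w) (hp : Re4 p) (hl : Pl x p) {n : G}
    (hn : n ∈ QQ b ⊓ s.co.linS) (en : ∀ y, act n y = hm x p (1, 0, 1) y) (hr : r ∈ QQ b)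
    (hz : Commute z r) (f1 : act r (om • x) = om • x) (f2 : act r p = p) :
    r ∈ QQ z ∨ ∀ y, act r y = hm x p (1, 0, 1) y := by
  have hr' : r ∈ QQ b ⊓ s.co.linS := ⟨hr, hz, (s.co.semi r hz).resolve_right fun hs => by
    rw [hs, ← s.eq, s.sg.act_b s.co.toUCo0 hr hz, s.eq] at f1
    exact absurd (smul_left_injective F4 s.x0 f1) (by decide)⟩
  have px := B4_comm.1 hl.hxy
  have k1 : B4 (w + act r w) p = 0 := by
    have := (s.eich hr').2 p px
    rw [f2, left_eq_add, smul_eq_zero] at this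
    exact B4_comm.1 (this.resolve_right s.x0)
  have k2 : w + act n w = p ∨ w + act n w = x + p := by
    rw [en, add_hm, s.B]
    rcases s.hw.B_cases hp with c | c <;> rw [c] <;> simp [f4_add_self]
  have k3 : (w + act r w = p ∨ w + act r w = x + p) → r * n ∈ QQ z := fun k => by
    refine s.mem_of_k (mul_mem hr' hn) ?_
    have xx : x + p + p = x := by rw [add_assoc, v4_add_self, add_zero]
    rw [s.k_mul hr' hn]
    rcases k with k | k <;> rcases k2 with k2 | k2 <;> rw [k, k2] <;>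
      simp [hl.hx, hl.hy, hl.hxy, px, v4_add_self, xx, add_comm p]
  rcases re_plane hl s.hx hp (s.k_re hr') (s.eich hr').1 k1 with c | c | c
  exacts [Or.inl (s.mem_of_k hr' (Or.inl c)), Or.inl (s.mem_of_k hr' (Or.inr c)), Or.inr fun y => by
    have := s.co.act_of_mem (k3 c) (act n y)
    rw [s.co.act_mul hz hn.2.1, ← s.co.act_mul hn.2.1 hn.2.1, s.co.act_of_mem (s.sg.sq_mem hn.1)]
      at this
    rw [this, en]]

end Sx

end Cfsg.Agent.X6
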