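import Mathlib
import Cfsg.Agent.X6.Ra
import Cfsg.Agent.X6.TNa

/-!
The reducible case: a normal `Q₈ : 3` forces weak closure.
-/

set_option autoImplicit false
set_option linter.unusedSectionVars false

namespace Cfsg.Agent.X6

open Cfsg.Agent.Spor Cfsg.Agent.Spor.TT Cfsg.Agent.Cl Cfsg.Agent.LX Subgroup QuadraticMap Module

variable {G : Type*} [Group G] [Finite G] {z a y w : G}

/-- A normal cyclic subgroup of order four excludes commuting conjugates outside `QQ z`. -/
theorem YH.not_pr (h : YH z y) : ¬ Pr z a := h.not_pr0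

theorem fix3 {w f d : G} (h3 : w ^ 3 = 1) (e : TT.cj w f = d * f) (c : Commute w d)
    (h4 : d ^ 4 = 1) : d = 1 := by
  have k := cj_one f
  rw [← h3, pow_three, ← cj_cj, ← cj_cj, e, cj_mul, cj_of_commute c, e, cj_mul, cj_mul,
    cj_of_commute c, e, ← mul_assoc, ← mul_assoc, mul_eq_right] at k
  rw [pow_succ, pow_three', k, one_mul] at h4
  exact h4

theorem WH.not_mem (h : WH z w) {b : G} (hb : Big b) : w ∉ QQ b := fun k => by
  have e : w = 1 := by
    have := hb.es.aes.pow_four k
    rwa [pow_succ, h.pow3, one_mul] at this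
  have := h.card
  rw [e, inf_eq_left.2 fun x _ => mem_centralizer_singleton.2 (Commute.one_left x), h.big.card] at this
  omega

theorem WH.comm_of (h : WH z w) {f : G} (k : TT.cj w f = f ∨ TT.cj w f = z * f) : Commute w f :=
  cj_eq_self_iff.1 (k.resolve_right fun e => h.big.ne_one
    (fix3 h.pow3 e h.comm.symm (h.big.es.aes.pow_four h.big.z_mem)))

/-- A normal `Q₈ : 3` forces weak closure. -/
theorem WH.wc (h : WH z w) : WC z := by
  intro a ha hq
  by_contra hne
  have s : Sg z a := ⟨h.big, ha, hq, hne⟩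
  have h' := s.big'
  obtain ⟨V, _, _, q, π, act, c⟩ := h.big.exists_co
  have fin := c.finite
  have hw := h.comm
  have T3 : ∀ v, act w (act w (act w v)) = v := fun v => by
    rw [← c.act_mul' hw hw, ← c.act_mul' (hw.mul_right hw) hw, ← pow_three', h.pow3, c.act_one,
      End.one_apply]
  let V6 : Submodule (ZMod 2) V := LinearMap.ker (act w + 1)
  have m6 : ∀ v, v ∈ V6 ↔ act w v = v := fun v => LinearMap.mem_ker.trans v2_add_eq_zero
  have c0 : Nat.card (pp q V6) = 4 := by
    have e : QQ z ⊓ centralizer ({w} : Set G) = c.up V6 := Subgroup.ext fun b =>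
      and_congr_right fun hb => by
        rw [m6, c.act_eq_iff hw hb]
        exact ⟨fun k => Or.inl (cj_of_commute (mem_centralizer_singleton.1 k)),
          fun k => mem_centralizer_singleton.2 (h.comm_of k)⟩
    have k := h.card
    rw [e, c.card_up] at k
    have k2 := c.finrank_pp V6
    rw [finrank_of_card (W := V6) (n := 6) (by omega)] at k2
    rw [card_eq_pow, show finrank (ZMod 2) (pp q V6) = 2 by omega]
    rfl
  have f1 : ∀ v, v + act w v ∈ pp q V6 := c.add_mem_pp hw fun v => (m6 v).1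
  have e6 : ∀ v, v + act w v + act w (act w v) ∈ V6 := fun v => by
    rw [m6, map_add, map_add, T3]; abel
  have nd : ∀ u ∈ V6, u ∈ pp q V6 → u = 0 := fun u h1 h2 => c.nd fun v => by
    have e : v = (v + act w v + act w (act w v)) + (act w v + act w (act w v)) := by
      rw [add_assoc v, add_assoc v, v2_add_self, add_zero]
    rw [e, polar_add_right, polar_comm, mem_pp.1 h2 _ (e6 v), mem_pp.1 (f1 _) u h1, add_zero]
  have t0 : ∀ u ∈ pp q V6, act w u ∈ pp q V6 := fun u hu => by
    have := add_mem hu (f1 u)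
    rwa [v2_add_add] at this
  have tt : ∀ u ∈ pp q V6, act w (act w u) = u + act w u := fun u hu =>
    (v2_add_eq_zero.1 (nd _ (e6 u) (add_mem (f1 u) (t0 _ (t0 u hu))))).symm
  have four : ∀ u ∈ pp q V6, u ≠ 0 → ∀ v ∈ pp q V6,
      v = 0 ∨ v = u ∨ v = act w u ∨ v = u + act w u := fun u hu u0 v hv =>
    mem_four'' c0 hu (t0 u hu) u0 (fun e => u0 (c.act_injective hw (e.trans (map_zero _).symm)))
      (fun e => u0 (nd u ((m6 u).2 e.symm) hu)) hv
  have q0 : ∀ u ∈ pp q V6, u ≠ 0 → q u = 1 ∧ polar q u (act w u) = 1 := fun u hu u0 => by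
    have k : polar q u (act w u) = q u := by
      have := q_add q u (act w u)
      rw [← tt u hu, c.act_q hw, c.act_q hw, CharTwo.add_self_eq_zero, zero_add] at this
      exact this.symm
    rw [k, and_self]
    refine (z2_cases _).resolve_left fun e => u0 (c.nd fun v => ?_)
    obtain ⟨v6, h6, v2, h2, rfl⟩ := c.split nd v
    rw [polar_add_right, polar_comm, mem_pp.1 hu v6 h6, zero_add]
    rcases four u hu u0 v2 h2 with rfl | rfl | rfl | rfl
    exacts [polar_zero_right _ _, pol_self _ _, k.trans e, by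
      rw [polar_add_right, pol_self, k, e, add_zero]]
  have qE : ∀ e ∈ QQ z ⊓ QQ a, q (π e) = 0 := fun e he => (c.sq e he.1).1 (s.E_sq e he)
  have nR := h'.es.card_centralizer_mul_two s.zq h.big.ne_one s.ne.symm
  rw [h'.card] at nR
  -- the elements commuting with `w` modulo `QQ z`
  let K : Subgroup G :=
    { carrier := {g | Commute z g ∧ ∀ v, act g (act w v) = act w (act g v)}
      one_mem' := ⟨Commute.one_right z, fun v => by rw [c.act_one]; rfl⟩
      mul_mem' := fun k l => ⟨k.1.mul_right l.1, fun v => by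
        rw [c.act_mul' k.1 l.1, c.act_mul' k.1 l.1, l.2, k.2]⟩
      inv_mem' := fun k => ⟨k.1.inv_right, fun v => c.act_injective k.1 (by
        rw [c.act_act_inv k.1, k.2, c.act_act_inv k.1])⟩ }
  have k1 : ∀ g, Commute z g → TT.cj g w * w⁻¹ ∈ QQ z → g ∈ K := fun g hg k => ⟨hg, fun v => by
    have := c.act_of_mem k (act w (act g v))
    rwa [c.act_mul' (commute_cj_of_commute hg hw) hw.inv_right, c.act_inv_act hw, c.act_cj hg hw]
      at this⟩
  have k2 : ∀ g, Commute z g → TT.cj g w * w ∈ QQ z →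
      ∀ v, act g (act w v) = act w (act w (act g v)) := fun g hg k v => by
    have := c.act_of_mem k (act w (act w (act g v)))
    rwa [c.act_mul' (commute_cj_of_commute hg hw) hw, T3, c.act_cj hg hw] at this
  by_cases hv : act w (π a) = π a
  · have wa : Commute w a := h.comm_of ((c.act_eq_iff hw hq).1 hv)
    have wE : ∀ e ∈ QQ z ⊓ QQ a, Commute w e := fun e he => by
      have m : e * TT.cj w e ∈ QQ z ⊓ QQ a :=
        mul_mem he ⟨h.big.cj_mem hw he.1, h'.cj_mem wa.symm he.2⟩
      have k := qE _ m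
      rw [c.mul e he.1 _ (h.big.cj_mem hw he.1), c.conj w hw e he.1] at k
      refine h.comm_of ((c.act_eq_iff hw he.1).1 (v2_add_eq_zero.1 ?_).symm)
      by_contra n
      exact zero_ne_one (k.symm.trans (q0 _ (f1 _) n).1)
    have wR : ∀ r ∈ QQ a, Commute z r → Commute w r := fun r hr hz => by
      have m1 : TT.cj w r * r⁻¹ ∈ QQ a := mul_mem (h'.cj_mem wa.symm hr) (inv_mem hr)
      have m2 : TT.cj w r * r⁻¹ ∈ QQ z := by
        rcases h.norm r hz with k | k
        · rw [show TT.cj w r * r⁻¹ = (TT.cj r w * w⁻¹)⁻¹ by simp only [cj_def]; group]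
          exact inv_mem k
        · refine absurd (c.mem_of_act hw fun v => ?_) (h.not_mem h.big)
          have z1 := (commute_cj_of_commute hw hz).mul_right hz.inv_right
          have e : ∀ v, act (TT.cj w r * r⁻¹) v = act w (act w v) := fun v => by
            rw [show TT.cj w r * r⁻¹ = w * w * (TT.cj r w * w)⁻¹ by simp only [cj_def]; group,
              c.act_mul' (hw.mul_right hw) (h.big.comm (inv_mem k)), c.act_of_mem (inv_mem k),
              c.act_mul' hw hw]
          have := c.act_act z1 (s.sq_mem m1) v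
          rwa [e, e, T3] at this
      have := fix3 h.pow3 (inv_mul_cancel_right _ r).symm (wE _ ⟨m2, m1⟩) (h'.es.aes.pow_four m1)
      exact cj_eq_self_iff.1 (mul_inv_eq_one.1 this)
    refine h.not_mem h' (h'.mem_of_triv wa.symm fun f hf => Or.inl ?_)
    have m1 : TT.cj w f * f⁻¹ ∈ QQ a := mul_mem (h'.cj_mem wa.symm hf) (inv_mem hf)
    have m2 := h'.es.mem_of_comm_centralizer (A := QQ a ⊓ centralizer ({w} : Set G)) inf_le_left
      ⟨h'.z_mem, mem_centralizer_singleton.2 wa⟩ m1 fun x hx k => by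
        have zx : Commute z x := (k z ⟨s.zq, mem_centralizer_singleton.2 hw.symm⟩).symm
        have fx : ∀ g ∈ QQ a, Commute w (TT.cj g x) := fun g hg => by
          rcases h'.es.aes.conj_eq hg hx with e | e <;> rw [cj_def, e]
          exacts [wR x hx zx, wa.mul_right (wR x hx zx)]
        refine Commute.symm (cj_eq_self_iff.1 ?_)
        rw [← cj_cj, ← cj_of_commute (fx _ (inv_mem hf)), ← cj_dist, cj_cj_inv,
          cj_of_commute (wR x hx zx)]
    exact mul_inv_eq_one.1 (fix3 h.pow3 (inv_mul_cancel_right _ f).symm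
      (mem_centralizer_singleton.1 m2.2) (h'.es.aes.pow_four m1))
  obtain ⟨v6, h6, v2, h2, ev⟩ := c.split nd (π a)
  have v0 : v2 ≠ 0 := fun e => hv (by rw [← ev, e, add_zero, (m6 _).1 h6])
  have q6 : q v6 = 1 := by
    have := qE a ⟨hq, h'.z_mem⟩
    rw [← ev, q_add, (q0 v2 h2 v0).1, mem_pp.1 h2 v6 h6, add_zero] at this
    exact (z2_cases _).resolve_left fun e => by rw [e, zero_add] at this; exact one_ne_zero this
  set R1 := QQ a ⊓ centralizer ({z} : Set G) ⊓ K with hR1
  have nR1 : Nat.card ↥(QQ a ⊓ centralizer ({z} : Set G)) ≤ 2 * Nat.card R1 :=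
    card_le_two_mul _ _ fun x hx y hy n1 n2 => by
      have zx : Commute z x := mem_centralizer_singleton.1 hx.2
      have zy : Commute z y⁻¹ := Commute.inv_right (mem_centralizer_singleton.1 hy.2)
      have e1 := k2 x zx ((h.norm x zx).resolve_left fun k => n1 (k1 x zx k))
      have e2 := k2 _ zy ((h.norm _ zy).resolve_left fun k => n2 (inv_mem_iff.1 (k1 _ zy k)))
      exact ⟨zx.mul_right zy, fun v => by
        rw [c.act_mul' zx zy, c.act_mul' zx zy, e2, e1, e1, T3]⟩
  have r6 : ∀ r ∈ K, ∀ u ∈ V6, act r u ∈ V6 := fun r hr u hu => by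
    rw [m6, ← hr.2, (m6 u).1 hu]
  have r0 : ∀ r ∈ R1, ∀ u ∈ pp q V6, act r u = u := fun r hr u hu => by
    by_cases u0 : u = 0
    · rw [u0, map_zero]
    have sq := c.act_act hr.2.1 (s.sq_mem hr.1.1) u
    have ne : act w u ≠ u := fun e => u0 (nd u ((m6 u).2 e) hu)
    rcases four u hu u0 _ (c.act_mem_pp hr.2.1 (r6 _ (inv_mem hr.2)) hu) with e | e | e | e
    · exact absurd (c.act_injective hr.2.1 (e.trans (map_zero _).symm)) u0
    · exact e
    · rw [e, hr.2.2, e] at sq
      exact absurd (by rw [← sq, T3, sq]) ne.symm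
    · rw [← tt u hu] at e
      rw [e, hr.2.2, hr.2.2, e, T3] at sq
      exact absurd sq ne
  let I := c.dn (QQ z ⊓ QQ a) ⊓ V6
  have mI : ∀ r ∈ R1, ∀ t, t + act r t ∈ I := fun r hr t => by
    obtain ⟨u6, k6, u2, k2, rfl⟩ := c.split nd t
    have e : ∀ u ∈ pp q V6, u6 + u + act r (u6 + u) = u6 + act r u6 := fun u hu => by
      rw [map_add, r0 r hr u hu, add_add_add_comm, v2_add_self, add_zero]
    obtain ⟨u, hu, k⟩ : ∃ u ∈ pp q V6, polar q (π a) (u6 + u) = 0 := by
      rcases z2_cases (polar q (π a) u6) with k | k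
      · exact ⟨0, zero_mem _, by rw [add_zero, k]⟩
      · exact ⟨act w v2, t0 v2 h2, by
          rw [polar_add_right, k, ← ev, polar_add_left, mem_pp.1 (t0 v2 h2) v6 h6, (q0 v2 h2 v0).2]
          decide⟩
    rw [e u2 k2]
    refine ⟨?_, add_mem k6 (r6 r hr.2 u6 k6)⟩
    rw [← e u hu]
    obtain ⟨x, hx, ex⟩ := c.surj (u6 + u)
    rw [← ex] at k ⊢
    have m := mul_mem hx (h.big.cj_mem hr.2.1 (inv_mem hx))
    refine ⟨_, ⟨m, ?_⟩, m, c.pi_comm hx hr.2.1⟩
    rw [show x * TT.cj r x⁻¹ = TT.cj x r * r⁻¹ by simp only [cj_def]; group]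
    exact mul_mem (h'.cj_mem ((c.comm a hq x hx).2 k) hr.1.1) ((QQ a).inv_mem hr.1.1)
  have qI : ∀ i ∈ I, q i = 0 := by
    rintro _ ⟨⟨e, he, -, rfl⟩, -⟩
    exact qE e he
  have pE : ∀ i ∈ c.dn (QQ z ⊓ QQ a), ∀ j ∈ c.dn (QQ z ⊓ QQ a), polar q i j = 0 := by
    rintro _ ⟨e, he, -, rfl⟩ _ ⟨f, hf, -, rfl⟩
    exact (c.comm e he.1 f hf.1).1 (s.E_comm e he f hf)
  have rk : finrank (ZMod 2) I ≤ 2 := by
    have n1 : v6 ∉ I := fun k => zero_ne_one ((qI _ k).symm.trans q6)
    have le6 : I ⊔ Submodule.span (ZMod 2) {v6} ≤ V6 :=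
      sup_le inf_le_right ((Submodule.span_singleton_le_iff_mem _ _).2 h6)
    have n2 : v2 ∉ I ⊔ Submodule.span (ZMod 2) {v6} := fun k => v0 (nd v2 (le6 k) h2)
    have e1 := Submodule.finrank_sup_span_singleton n1
    have e2 := Submodule.finrank_sup_span_singleton n2
    have p1 : ∀ i ∈ I, polar q i v6 = 0 := fun i hi => by
      have := pE i hi.1 (π a) ⟨a, ⟨hq, h'.z_mem⟩, hq, rfl⟩
      rwa [← ev, polar_add_right, mem_pp.1 h2 i hi.2, add_zero] at this
    have dec : ∀ x ∈ I ⊔ Submodule.span (ZMod 2) {v6} ⊔ Submodule.span (ZMod 2) {v2},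
        ∃ i ∈ I, ∃ s t : ZMod 2, x = i + s • v6 + t • v2 := fun x hx => by
      obtain ⟨y, hy, _, hz, rfl⟩ := Submodule.mem_sup.1 hx
      obtain ⟨i, hi, _, hj, rfl⟩ := Submodule.mem_sup.1 hy
      obtain ⟨s, rfl⟩ := Submodule.mem_span_singleton.1 hj
      obtain ⟨t, rfl⟩ := Submodule.mem_span_singleton.1 hz
      exact ⟨i, hi, s, t, rfl⟩
    have le := Submodule.finrank_mono (show I ⊔ Submodule.span (ZMod 2) {v6} ⊔
        Submodule.span (ZMod 2) {v2} ≤ pp q (I ⊔ Submodule.span (ZMod 2) {v6} ⊔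
        Submodule.span (ZMod 2) {v2}) from fun x hx => mem_pp.2 fun y hy => by
      obtain ⟨i, hi, s, t, rfl⟩ := dec x hx
      obtain ⟨j, hj, s', t', rfl⟩ := dec y hy
      simp only [polar_add_left, polar_add_right, polar_smul_left, polar_smul_right, pol_self,
        pE j hj.1 i hi.1, p1 j hj, polar_comm q v6 i, p1 i hi, mem_pp.1 h2 j hj.2, polar_comm q v2 i,
        mem_pp.1 h2 i hi.2, polar_comm q v2 v6, mem_pp.1 h2 v6 h6, smul_zero, add_zero])
    have := c.finrank_pp (I ⊔ Submodule.span (ZMod 2) {v6} ⊔ Submodule.span (ZMod 2) {v2})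
    omega
  have alt : ∀ r ∈ R1, ∀ t, polar q t (t + act r t) = 0 := fun r hr t => by
    rw [← c.q_add_act hr.2.1, qI _ (mI r hr t)]
  have sym : ∀ r ∈ R1, ∀ s t, polar q s (t + act r t) = polar q t (s + act r s) := fun r hr s t => by
    have := alt r hr (s + t)
    rw [map_add, add_add_add_comm, polar_add_left, polar_add_right, polar_add_right q t, alt r hr,
      alt r hr, zero_add, add_zero] at this
    exact (CharTwo.add_eq_zero.1 this)
  have two : Nat.card R1 ≤ 2 * Nat.card ↥(R1 ⊓ QQ z) := card_le_two_mul _ _ fun r hr r' hr' n n' => by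
    obtain ⟨u, hu⟩ : ∃ u, u + act r u ≠ 0 := by
      by_contra k
      push Not at k
      exact n (c.mem_of_act hr.2.1 fun v => (v2_add_eq_zero.1 (k v)).symm)
    obtain ⟨u', hu'⟩ : ∃ u', polar q (u + act r u) u' = 1 := by
      by_contra k
      push Not at k
      exact hu (c.nd fun v => (z2_cases _).resolve_right (k v))
    rw [polar_comm] at hu'
    have a1 := alt r hr u
    have a2 := alt r hr u'
    have a3 := (sym r hr u u').trans hu'
    have i0 : ∀ x ∈ I, polar q u x = 0 → polar q u' x = 0 → x = 0 := fun x hx e1 e2 => by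
      have j0 : u' + act r u' ≠ 0 := fun e => by
        rw [e, polar_zero_right] at a3; exact zero_ne_one a3
      have ij : u + act r u ≠ u' + act r u' := fun e => by
        rw [e, a3] at a1; exact one_ne_zero a1
      have cI : Nat.card I = 4 := by
        have : 3 ≤ Nat.card I := by
          have := Finite.one_lt_card_iff_nontrivial.2
            (⟨⟨_, mI r hr u⟩, 0, fun e => hu (congrArg Subtype.val e)⟩ : Nontrivial I)
          by_contra k
          obtain ⟨y, -, hy⟩ := (Nat.card_eq_two_iff' (0 : I)).1 (by omega)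
          exact ij (congrArg Subtype.val ((hy ⟨_, mI r hr u⟩ fun e => hu (congrArg Subtype.val e)).trans
            (hy ⟨_, mI r hr u'⟩ fun e => j0 (congrArg Subtype.val e)).symm))
        rw [card_eq_pow] at this ⊢
        interval_cases finrank (ZMod 2) I <;> omega
      rcases mem_four'' cI (mI r hr u) (mI r hr u') hu j0 ij hx with rfl | rfl | rfl | rfl
      · rfl
      · exact absurd (e2.symm.trans hu') zero_ne_one
      · exact absurd (e1.symm.trans a3) zero_ne_one
      · rw [polar_add_right, a1, a3] at e1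
        exact absurd e1 (by decide)
    have b1 := alt r' hr' u
    have b2 := alt r' hr' u'
    have b3 := sym r' hr' u u'
    rcases z2_cases (polar q u' (u + act r' u)) with k | k
    · have e1 := i0 _ (mI r' hr' u) b1 k
      have e2 := i0 _ (mI r' hr' u') (b3.trans k) b2
      exact absurd (c.mem_of_act hr'.2.1 fun t => (v2_add_eq_zero.1 (i0 _ (mI r' hr' t)
        (by rw [sym r' hr', e1, polar_zero_right]) (by rw [sym r' hr', e2, polar_zero_right]))).symm) n'
    · have e1 := v2_add_eq_zero.1 (i0 _ (add_mem (mI r hr u) (mI r' hr' u))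
        (by rw [polar_add_right, a1, b1, add_zero]) (by rw [polar_add_right, hu', k]; decide))
      have e2 := v2_add_eq_zero.1 (i0 _ (add_mem (mI r hr u') (mI r' hr' u'))
        (by rw [polar_add_right, a3, b3, k]; decide) (by rw [polar_add_right, a2, b2, add_zero]))
      refine c.mem_of_act (hr.2.1.mul_right hr'.2.1.inv_right) fun t => ?_
      obtain ⟨t, rfl⟩ : ∃ t', act r' t' = t := ⟨_, c.act_act_inv hr'.2.1 t⟩
      rw [c.act_mul' hr.2.1 hr'.2.1.inv_right, c.act_inv_act hr'.2.1]
      exact add_left_cancel (v2_add_eq_zero.1 (i0 _ (add_mem (mI r hr t) (mI r' hr' t))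
        (by rw [polar_add_right, sym r hr, sym r' hr', e1, CharTwo.add_self_eq_zero])
        (by rw [polar_add_right, sym r hr, sym r' hr', e2, CharTwo.add_self_eq_zero])))
  have := card_mono (S := R1 ⊓ QQ z) (T := QQ z ⊓ QQ a) fun x hx => ⟨hx.2, hx.1.1.1⟩
  have := s.card_E
  omega

end Cfsg.Agent.X6
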