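import Mathlib
import Cfsg.Agent.X6.TNa

/-!
The tensor case: `z` is weakly closed in `QQ z`. Otherwise an elementary abelian group of order
`2^7` contains an orbit of length `67` of its normaliser.
-/

set_option autoImplicit false
set_option linter.unusedSectionVars false
set_option linter.unusedVariables false

namespace Cfsg.Agent.X6

open Cfsg.Agent.Spor Cfsg.Agent.Spor.TT Cfsg.Agent.Cl Cfsg.Agent.LX Subgroup

variable {G : Type*} [Group G] [Finite G] {z a b e r g c f : G} {π : G → V4} {act : G → V4 → V4}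
  {u v w x p t : V4}

theorem ncard_pre (h : UCo0 z π act) (S : Set V4) :
    {x | x ∈ QQ z ∧ π x ∈ S}.ncard = 2 * S.ncard := by
  classical
  choose σ h1 h2 using h.surj
  have k : {x | x ∈ QQ z ∧ π x ∈ S} = σ '' S ∪ (fun v => z * σ v) '' S := by
    ext x
    constructor
    · rintro ⟨hx, k⟩
      exact ((h.eq_iff hx (h1 (π x))).1 (h2 _).symm).imp (fun e => ⟨_, k, e.symm⟩)
        fun e => ⟨_, k, e.symm⟩
    · rintro (⟨v, hv, rfl⟩ | ⟨v, hv, rfl⟩)
      · exact ⟨h1 v, (h2 v).symm ▸ hv⟩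
      · exact ⟨mul_mem h.big.z_mem (h1 v), by rw [h.z_mul (h1 v), h2]; exact hv⟩
  have i : Function.Injective σ := Function.LeftInverse.injective h2
  rw [two_mul, k, Set.ncard_union_eq _ ((Set.toFinite S).image _) ((Set.toFinite S).image _),
    Set.ncard_image_of_injective _ i,
    Set.ncard_image_of_injective _ fun u v e => i (mul_left_cancel e)]
  rw [Set.disjoint_left]
  rintro _ ⟨u, -, rfl⟩ ⟨v, -, e⟩
  have e2 := congrArg π e
  simp only [h.z_mul (h1 v), h2] at e2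
  subst e2
  exact h.big.ne_one (mul_eq_right.1 e)

theorem pl_inj (hl : Pl x p) : Function.Injective fun k : F4 × F4 => k.1 • x + k.2 • p :=
  fun _ _ e => Prod.ext_iff.2 (hl.inj e)

theorem card_Pre (h : UCo0 z π act) (hl : Pl x p) : Nat.card (h.Pre x p) = 32 := by
  rw [h.card_eq (S := Set.range fun k : F4 × F4 => k.1 • x + k.2 • p) fun f => and_congr_right
      fun _ => ⟨fun k => let ⟨c, d, e⟩ := hl.mem k.1 k.2; ⟨(c, d), e.symm⟩,
        fun ⟨k, e⟩ => e ▸ ⟨hl.left _ _, hl.right _ _⟩⟩,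
    Set.ncard_range_of_injective (pl_inj hl), Nat.card_eq_fintype_card]
  rfl

theorem pre_comm (h : UCo0 z π act) (hl : Pl x p) (he : e ∈ h.Pre x p) (hf : f ∈ h.Pre x p) :
    Commute e f := comm_of_sq_eq_one (fun _ => h.Pre_sq hl) he hf

theorem mem_pre (h : UCo0 z π act) (hl : Pl x p) (hq : c ∈ QQ z)
    (hc : c ∈ centralizer (h.Pre x p : Set G)) : c ∈ h.Pre x p :=
  h.big.mem_of_card (P := h.Pre x p) (fun _ k => k.1) (h.z_mem_Pre x p) (fun _ k _ l => pre_comm h hl k l)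
    (card_Pre h hl).ge hq hc

theorem hm_sq (hl : Pl x p) (κ : F4 × F4 × F4) (y : V4) : hm x p κ (hm x p κ y) = y := by
  rw [hl.hm_hm, k3_add_self, hm_zero]

/-- The elementary abelian group of order `2^7`. -/
def JJ (h : UCo0 z π act) (hl : Pl x p) : Subgroup G where
  carrier := {c | c ∈ centralizer (h.Pre x p : Set G) ∧ ∃ s t : F4, s4 s = s ∧ s4 t = t ∧
    ∀ y, act c y = hm x p (s, t, s + t) y}
  one_mem' := ⟨one_mem _, 0, 0, map_zero _, map_zero _, fun y => by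
    rw [h.act_one, add_zero]; exact (hm_zero x p y).symm⟩
  mul_mem' := by
    rintro c d ⟨h1, s, t, k1, k2, e⟩ ⟨h2, s', t', k3, k4, e'⟩
    refine ⟨mul_mem h1 h2, s + s', t + t', by rw [map_add, k1, k3], by rw [map_add, k2, k4], fun y => ?_⟩
    rw [h.act_mul (h.cen_comm h1) (h.cen_comm h2), e, e', hl.hm_hm, Prod.mk_add_mk, Prod.mk_add_mk,
      add_add_add_comm s t]
  inv_mem' := by
    rintro c ⟨h1, s, t, k1, k2, e⟩
    refine ⟨inv_mem h1, s, t, k1, k2, fun y => h.act_injective (h.cen_comm h1) ?_⟩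
    rw [h.act_act_inv (h.cen_comm h1), e, hm_sq hl]

theorem pre_le_JJ (h : UCo0 z π act) (hl : Pl x p) (hf : f ∈ h.Pre x p) : f ∈ JJ h hl :=
  ⟨fun e he => pre_comm h hl he hf, 0, 0, map_zero _, map_zero _, fun y => by
    rw [h.act_of_mem hf.1, add_zero]; exact (hm_zero x p y).symm⟩

theorem cj_cen (h : UCo0 z π act) {k : G} (h1 : ∀ f ∈ h.Pre x p, TT.cj k f ∈ h.Pre x p)
    (hc : c ∈ centralizer (h.Pre x p : Set G)) : TT.cj k c ∈ centralizer (h.Pre x p : Set G) :=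
  cj_mem_of_normalizer (GT.normalizer_le_normalizer_centralizer _ (mem_normalizer_fintype h1)) hc

theorem act_cj_hm (h : UCo0 z π act) {k : G} (hk : Commute z k) (hc : Commute z c)
    {κ κ' : F4 × F4 × F4} (e : ∀ y, act c y = hm x p κ y)
    (e' : ∀ y, act k (hm x p κ y) = hm x p κ' (act k y)) (y : V4) :
    act (TT.cj k c) y = hm x p κ' y := by
  obtain ⟨y, rfl⟩ := h.act_surjective hk y
  rw [h.act_cj' hk hc, e, e']

theorem mem_norm_JJ (h : UCo0 z π act) (hl : Pl x p) {k : G} (hk : Commute z k)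
    (h1 : ∀ f ∈ h.Pre x p, TT.cj k f ∈ h.Pre x p)
    (h2 : ∀ s t : F4, s4 s = s → s4 t = t → ∃ s' t' : F4, s4 s' = s' ∧ s4 t' = t' ∧
      ∀ y, act k (hm x p (s, t, s + t) y) = hm x p (s', t', s' + t') (act k y)) :
    k ∈ normalizer (JJ h hl : Set G) := by
  refine mem_normalizer_fintype ?_
  rintro c ⟨hc, s, t, k1, k2, e⟩
  obtain ⟨s', t', k3, k4, e'⟩ := h2 s t k1 k2
  exact ⟨cj_cen h h1 hc, s', t', k3, k4, act_cj_hm h hk (h.cen_comm hc) e e'⟩

theorem card_JJ (h : UCo0 z π act) (hl : Pl x p) : Nat.card (JJ h hl) ≤ 512 := by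
  classical
  have : ∀ c, ∃ κ : F4 × F4, c ∈ JJ h hl → ∀ y, act c y = hm x p (κ.1, κ.2, κ.1 + κ.2) y := fun c => by
    by_cases hc : c ∈ JJ h hl
    · obtain ⟨-, s, t, -, -, e⟩ := hc
      exact ⟨(s, t), fun _ => e⟩
    · exact ⟨0, fun k => absurd k hc⟩
  choose κ hκ using this
  have k := card_le_mul_of_fiber (JJ h hl) (h.Pre x p) κ Finset.univ (fun _ _ => Finset.mem_univ _)
    fun g hg g' hg' c => mem_pre h hl (h.mul_inv_mem (h.cen_comm hg.1) (h.cen_comm hg'.1) fun w => by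
      rw [hκ g hg, hκ g' hg', c]) (mul_mem hg.1 (inv_mem hg'.1))
  rwa [card_Pre h hl] at k

theorem rot_hm (h : UCo0 z π act) (hg : Commute z g) (hl : Lin (act g)) (e1 : act g x = p)
    (e2 : act g p = x + p) {s t : F4} (hs : s4 s = s) (ht : s4 t = t) (y : V4) :
    act g (hm x p (s, t, s + t) y) = hm x p (t, s + t, t + (s + t)) (act g y) := by
  have b1 : B4 y x = B4 (act g y) p := by rw [← h.act_B hg hl, e1]
  have b2 : B4 y p = B4 (act g y) x + B4 (act g y) p := by rw [← h.act_B hg hl, e2, B4_ar]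
  have k : ∀ a b s t : F4, s4 s = s → s4 t = t →
      b * (s + t) + (a + b) * t = a * t + b * s4 (t + (s + t)) ∧
      b * s + (a + b) * s4 (s + t) + (b * (s + t) + (a + b) * t) = a * (t + (s + t)) + b * (s + t) := by
    decide +kernel
  obtain ⟨k1, k2⟩ := k (B4 (act g y) x) (B4 (act g y) p) s t hs ht
  rw [hm, hm, h.act_add hg, h.act_add hg, hl, hl, e1, e2, b1, b2]
  simp only
  rw [← k1, ← k2]
  module

/-- In the tensor case `z` is weakly closed in `QQ z`. -/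
theorem HT.wc (h : HT z) : WC z := by
  classical
  intro a0 ha0 hq0
  by_contra hne0
  obtain ⟨π, act, h⟩ := h
  have h0 := h.toUCo0
  obtain ⟨w1, hw1, ew1⟩ := h.sc
  have zc : ∀ q ∈ QQ z, ∀ y, TT.cj q (z * y) = z * TT.cj q y := fun q hq y => by
    rw [cj_mul, cj_of_commute (h.big.comm hq).symm]
  obtain ⟨a, x, sa, hx, ea⟩ : ∃ a x, Sg z a ∧ Re4 x ∧ π a = x := by
    have s0 : Sg z a0 := ⟨h.big, ha0, hq0, hne0⟩
    obtain ⟨c, x, c0, hx, e⟩ := s0.pure h
    have k : ∀ b c, Sg z b → π b = c • x → π (TT.cj w1 b) = (om * c) • x := fun b c s e => by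
      rw [h.conj w1 hw1 b s.mem, ew1, e, smul_smul]
    rcases f4_cases c with rfl | rfl | rfl | rfl
    · exact absurd rfl c0
    · exact ⟨a0, x, s0, hx, by rw [e, one_smul]⟩
    · exact ⟨_, x, (s0.cj hw1).cj hw1, hx, by
        rw [k _ _ (s0.cj hw1) (k _ _ s0 e), show om * (om * om) = (1 : F4) by decide, one_smul]⟩
    · exact ⟨_, x, s0.cj hw1, hx, by
        rw [k _ _ s0 e, show om * (om + 1) = (1 : F4) by decide, one_smul]⟩
  obtain ⟨w0, hw0, B0⟩ := hx.exists_B (ea ▸ (sa.iso h0).1)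
  have s : Sx z a π act x w0 := ⟨h, sa, hx, ea, hw0, B0⟩
  obtain ⟨q0, hq0, eq0⟩ := sa.exists_z_mul
  have s' : Sx z (z * a) π act x w0 :=
    ⟨h, eq0 ▸ sa.cj (h.big.comm hq0), hx, by rw [h.z_mul sa.mem, ea], hw0, B0⟩
  obtain ⟨p, hp, hl, n, hn, en⟩ := s.exists_n
  have aQ : ∀ q ∈ QQ z, ∀ c, Commute z c → ∀ y, act (TT.cj q c) y = act c y := fun q hq c hc y => by
    have := h.act_cj' (h.big.comm hq) hc y
    rwa [h.act_of_mem hq, h.act_of_mem hq] at this
  have en' : ∀ y, act (TT.cj q0 n) y = hm x p (1, 0, 1) y := fun y => by rw [aQ q0 hq0 n hn.2.1, en]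
  have hn' : TT.cj q0 n ∈ QQ (z * a) ⊓ h.linS := ⟨eq0 ▸ cj_mem_QQ.2 hn.1,
    cj_mem_of_mem ⟨h.big.comm hq0, fun c y => by rw [h.act_of_mem hq0, h.act_of_mem hq0]⟩ hn.2⟩
  have p0 : p ≠ 0 := hl.hi.ne_zero 1
  have xp : x ≠ p := fun e => absurd (hl.inj (c := 1) (d := 0) (c' := 0) (d' := 1) (by simp [e])).1
    one_ne_zero
  have px := B4_comm.1 hl.hxy
  have aJ : a ∈ h.Pre x p := ⟨sa.mem, ea ▸ hl.hx, ea ▸ hl.hxy⟩
  -- the part of the plane inside `QQ a`
  have dE : ∀ f ∈ QQ z, ∀ c d : F4, π f = c • x + d • p → s4 d = d → f ∈ QQ a := fun f hf c d e hd => by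
    have k : ∀ c : F4, ∃ c1 c2 : F4, s4 c1 = c1 ∧ s4 c2 = c2 ∧ c = c1 + om * c2 := by decide
    obtain ⟨c1, c2, k1, k2, rfl⟩ := k c
    refine MM.mem sa h0 hf ?_
    rw [e, show (c1 + om * c2) • x + d • p = (c1 • x + d • p) + om • c2 • x by module]
    exact (s.mm_iff ((hx.smul k1).add (hp.smul hd)) (hx.smul k2)).2
      ⟨hl.left _ _, re_line hx s.x0 (hx.smul k2)⟩
  obtain ⟨g, hg, eg⟩ := (⟨sa.big', sa.conj.symm, sa.zq, sa.ne.symm⟩ : Sg a z).exists_z_mul
  rw [← (h.big.comm sa.mem).eq] at eg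
  have ga : TT.cj g a = a := cj_of_commute (sa.big'.comm hg).symm
  obtain ⟨m, hm', em⟩ := h.surj (om • p)
  have mJ : m ∈ h.Pre x p := ⟨hm', by rw [em, B4_sl, px, mul_zero], by rw [em, B4_sl, hl.hy, mul_zero]⟩
  have dec : ∀ f ∈ h.Pre x p, f ∈ QQ a ∨ f * m ∈ QQ a := fun f hf => by
    obtain ⟨c, d, e⟩ := hl.mem hf.2.1 hf.2.2
    have k : ∀ d : F4, s4 d = d ∨ s4 (d + om) = d + om := by decide
    exact (k d).imp (dE f hf.1 c d e) (dE _ (mul_mem hf.1 hm') c _ (by
      rw [h.mul f hf.1 m hm', e, em, add_smul, add_assoc]))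
  have am : Commute a m := pre_comm h0 hl aJ mJ
  have gD : ∀ k ∈ QQ a, ∀ e ∈ h.Pre x p, e ∈ QQ a → TT.cj k e ∈ h.Pre x p := fun k hk e he he' => by
    rcases sa.big'.es.aes.conj_eq hk he' with c | c <;> rw [cj_def, c]
    exacts [he, mul_mem aJ he]
  have ggm : TT.cj g (TT.cj g m) = m := by
    rw [cj_cj]
    rcases sa.big'.es.sq g hg with c | c <;> rw [c]
    exacts [cj_one m, cj_of_commute am]
  set n1 := TT.cj g m with hn1
  have n1Q : n1 ∈ QQ (z * a) := eg ▸ cj_mem_QQ.2 hm'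
  have n1D : ∀ e ∈ h.Pre x p, e ∈ QQ a → Commute n1 e := fun e he he' =>
    commute_cj_left.2 (pre_comm h0 hl mJ (gD _ (inv_mem hg) e he he'))
  have zn1 : Commute z n1 := (n1D z (h.z_mem_Pre x p) sa.zq).symm
  have n1n : n1 ∉ QQ z := fun c => by
    obtain ⟨y, t, hy, ht, e⟩ := exists_re (π n1)
    have k : n1 ∈ QQ a := MM.mem sa h0 c (e ▸ (s.mm_iff hy ht).2 ((s'.mm_iff hy ht).1
      (e ▸ ⟨n1, ⟨c, n1Q⟩, rfl⟩)))
    have k2 : MM π z a (0 + om • p) := ⟨m, ⟨hm', ggm ▸ cj_mem_of_mem hg k⟩, by rw [em, zero_add]⟩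
    exact ((s.mm_iff re4_zero hp).1 k2).2.elim p0 xp.symm
  have fixv : ∀ c, Commute z c → (∀ e ∈ h.Pre x p, e ∈ QQ a → Commute c e) →
      act c (om • x) = om • x ∧ act c p = p := fun c hc k => by
    have k2 : ∀ c1 d : F4, s4 d = d → act c (c1 • x + d • p) = c1 • x + d • p := fun c1 d hd => by
      obtain ⟨e, he, ee⟩ := h.surj (c1 • x + d • p)
      rw [← ee]
      exact (h.act_eq_iff hc he).2 (Or.inl (cj_of_commute
        (k e ⟨he, ee ▸ hl.left _ _, ee ▸ hl.right _ _⟩ (dE e he _ _ ee hd))))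
    exact ⟨by simpa using k2 om 0 (map_zero _), by simpa using k2 0 1 (map_one _)⟩
  have en1 : ∀ y, act n1 y = hm x p (1, 0, 1 + 0) y := by
    rw [add_zero]
    exact (s'.fix_cases hp hl hn' en' n1Q zn1 (fixv _ zn1 n1D).1 (fixv _ zn1 n1D).2).resolve_left n1n
  have mm : m * m = 1 := h.Pre_sq hl mJ
  have n11 : n1 * n1 = 1 := by rw [hn1, ← cj_mul, mm, cj_one_right]
  have n1m : Commute n1 m := by
    refine cj_eq_self_iff.1 (((h.act_eq_iff zn1 hm').1 ?_).resolve_right fun c => ?_)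
    · rw [en1, hm, mJ.2.1, mJ.2.2]; simp
    · have k := congrArg (TT.cj g) c
      rw [cj_dist, ggm, cj_mul, eg, ← hn1, cj_def, inv_eq_self_of_sq mm] at k
      rw [cj_def, inv_eq_self_of_sq n11] at c
      have k1 : m * n1 * m * n1 = z * a := by rw [k, mul_assoc, n11, mul_one]
      have k2 : n1 * m * n1 * m = z := by rw [c, mul_assoc, mm, mul_one]
      have k3 : z * (z * a) = 1 := by
        rw [← k1]
        nth_rw 1 [← k2]
        rw [show n1 * m * n1 * m * (m * n1 * m * n1) = n1 * (m * (n1 * (m * m) * n1) * m) * n1 by group,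
          mm, mul_one, n11, mul_one, mm, mul_one, n11]
      exact sa.big'.ne_one (h.big.es.z_mul_z_mul a ▸ k3)
  have cenD : ∀ c, Commute c m → (∀ e ∈ h.Pre x p, e ∈ QQ a → Commute c e) →
      c ∈ centralizer (h.Pre x p : Set G) := fun c c1 c2 f hf => by
    rcases dec f hf with k | k
    · exact (c2 f hf k).symm
    · have := (c2 _ (mul_mem hf mJ) k).mul_right c1.inv_right
      rw [mul_inv_cancel_right] at this
      exact this.symm
  have n1C := cenD n1 n1m n1D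
  -- the rotation
  obtain ⟨g1, hg1, l1, r1, r2⟩ := h.rot x p hx hp s.x0 p0 xp hl.hxy
  have g1J : ∀ f ∈ h.Pre x p, TT.cj g1 f ∈ h.Pre x p := fun f hf => by
    have b1 : B4 (act g1 (π f)) p = 0 := by rw [← r1, h.act_B hg1 l1, hf.2.1]
    have b2 : B4 (act g1 (π f)) (x + p) = 0 := by rw [← r2, h.act_B hg1 l1, hf.2.2]
    rw [B4_ar, b1, add_zero] at b2
    exact ⟨h.big.cj_mem hg1 hf.1, by rw [h.conj g1 hg1 f hf.1]; exact ⟨b2, b1⟩⟩
  have rot : ∀ c ∈ centralizer (h.Pre x p : Set G), ∀ s t : F4, s4 s = s → s4 t = t →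
      (∀ y, act c y = hm x p (s, t, s + t) y) →
      ∀ y, act (TT.cj g1 c) y = hm x p (t, s + t, t + (s + t)) y := fun c hc s t hs ht e =>
    act_cj_hm h0 hg1 (h.cen_comm hc) e (rot_hm h0 hg1 l1 r1 r2 hs ht)
  have k0 : ∀ c ∈ centralizer (h.Pre x p : Set G), ∀ r ∈ centralizer (h.Pre x p : Set G),
      (∀ w, act c w = act r w) → c * r⁻¹ ∈ h.Pre x p := fun c hc r hr k =>
    mem_pre h0 hl (h.mul_inv_mem (h.cen_comm hc) (h.cen_comm hr) k) (mul_mem hc (inv_mem hr))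
  have Jsq : ∀ c ∈ JJ h0 hl, c * c = 1 := by
    rintro c ⟨hc, s, t, hs, ht, e⟩
    have k1 : ∀ r ∈ centralizer (h.Pre x p : Set G), r * r = 1 →
        (∀ y, act r y = hm x p (s, t, s + t) y) → c * c = 1 := fun r hr rr k => by
      have m := k0 c hc r hr fun y => (e y).trans (k y).symm
      have cm : Commute (c * r⁻¹) r := hr _ m
      rw [← inv_mul_cancel_right c r, ← cm.mul_mul_mul_comm, h.Pre_sq hl m, rr, one_mul]
    have e2 := rot n1 n1C 1 0 (map_one _) (map_zero _) en1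
    have e3 := rot _ (cj_cen h0 g1J n1C) 0 (1 + 0) (map_zero _) (by simp) e2
    rcases f4_fixed s hs with rfl | rfl <;> rcases f4_fixed t ht with rfl | rfl
    · exact k1 1 (one_mem _) (one_mul 1) fun y => by
        rw [h.act_one, add_zero]; exact (hm_zero x p y).symm
    · exact k1 _ (cj_cen h0 g1J n1C) (by rw [← cj_mul, n11, cj_one_right]) (by simpa using e2)
    · exact k1 _ n1C n11 en1
    · exact k1 _ (cj_cen h0 g1J (cj_cen h0 g1J n1C))
        (by rw [← cj_mul, ← cj_mul, n11, cj_one_right, cj_one_right]) (by simpa using e3)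
  have n1J : n1 ∈ JJ h0 hl := ⟨n1C, 1, 0, map_one _, map_zero _, en1⟩
  -- normalising elements
  have nQ : ∀ q ∈ QQ z, q ∈ normalizer (JJ h0 hl : Set G) := fun q hq =>
    mem_norm_JJ h0 hl (h.big.comm hq) (fun f hf => ⟨cj_mem_of_mem hq hf.1, by
      rw [h.conj q (h.big.comm hq) f hf.1, h.act_of_mem hq]; exact hf.2⟩)
      fun s t hs ht => ⟨s, t, hs, ht, fun y => by rw [h.act_of_mem hq, h.act_of_mem hq]⟩
  have nw : w1 ∈ normalizer (JJ h0 hl : Set G) :=
    mem_norm_JJ h0 hl hw1 (fun f hf => ⟨h.big.cj_mem hw1 hf.1, by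
      rw [h.conj w1 hw1 f hf.1, ew1, B4_sl, B4_sl, hf.2.1, hf.2.2]; simp⟩)
      fun s t hs ht => ⟨s, t, hs, ht, fun y => by
        rw [ew1, ew1, hm, hm, B4_sl, B4_sl]; module⟩
  have ng1 : g1 ∈ normalizer (JJ h0 hl : Set G) :=
    mem_norm_JJ h0 hl hg1 g1J fun s t hs ht =>
      ⟨t, s + t, ht, by rw [map_add, hs, ht], rot_hm h0 hg1 l1 r1 r2 hs ht⟩
  have ng : g ∈ normalizer (JJ h0 hl : Set G) := by
    refine mem_normalizer_fintype fun c hc => ?_
    have c1 : TT.cj g c ∈ centralizer (h.Pre x p : Set G) := by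
      refine cenD _ ?_ fun e he he' =>
        commute_cj_left.2 (Commute.symm (hc.1 _ (gD _ (inv_mem hg) e he he')))
      rw [← ggm]
      exact commute_cj.2 (comm_of_sq_eq_one Jsq hc n1J)
    have c2 : TT.cj g c * c⁻¹ ∈ centralizer (h.Pre x p : Set G) := mul_mem c1 (inv_mem hc.1)
    have c3 : TT.cj g c * c⁻¹ ∈ QQ a := by
      rw [show TT.cj g c * c⁻¹ = g * TT.cj c g⁻¹ by simp only [cj_def]; group]
      exact mul_mem hg (sa.big'.cj_mem (hc.1 a aJ) (inv_mem hg))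
    have c4 := fixv _ (h.cen_comm c2) fun e he _ => Commute.symm (c2 e he)
    have c5 : TT.cj g c * c⁻¹ ∈ JJ h0 hl := by
      rcases s.fix_cases hp hl hn en c3 (h.cen_comm c2) c4.1 c4.2 with k | k
      · exact pre_le_JJ h0 hl (mem_pre h0 hl k c2)
      · exact ⟨c2, 1, 0, map_one _, map_zero _, by rwa [add_zero]⟩
    have := mul_mem c5 hc
    rwa [inv_mul_cancel_right] at this
  -- the orbit
  have zJ : z ∈ JJ h0 hl := pre_le_JJ h0 hl (h.z_mem_Pre x p)
  set S := {s | ∃ n ∈ normalizer (JJ h0 hl : Set G), TT.cj n z = s} with hS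
  have s1 : ∀ o ∈ S, o ∈ JJ h0 hl ∧ IsConj z o := by
    rintro _ ⟨k, hk, rfl⟩
    exact ⟨cj_mem_of_normalizer hk zJ, TT.isConj_cj k z⟩
  have s2 : ∀ k ∈ normalizer (JJ h0 hl : Set G), ∀ o ∈ S, TT.cj k o ∈ S := by
    rintro k hk _ ⟨k', hk', rfl⟩
    exact ⟨k * k', mul_mem hk hk', (cj_cj k k' z).symm⟩
  have zS : z ∈ S := ⟨1, one_mem _, cj_one z⟩
  let T : V4 → Prop := fun u => ∀ f ∈ QQ z, π f = u → f ∈ S
  have t1 : T x := fun f hf e => by
    have k : z * a ∈ S := ⟨g, ng, eg⟩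
    rcases (h.eq_iff hf sa.mem).1 (e.trans ea.symm) with rfl | rfl
    · have := s2 _ (nQ _ (inv_mem hq0)) _ k
      rwa [← eq0, cj_inv_cj] at this
    · exact k
  have t2 : ∀ k ∈ normalizer (JJ h0 hl : Set G), Commute z k → ∀ u, T u → T (act k u) :=
    fun k hk hz u hu f hf e => by
      have := s2 k hk _ (hu _ (h.big.cj_mem hz.inv_right hf) (by
        rw [h.conj _ hz.inv_right f hf, e, h.act_inv_act hz]))
      rwa [cj_cj_inv] at this
  have t3 : ∀ u, T u → ∀ c : F4, c ≠ 0 → T (c • u) := fun u hu c c0 => by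
    have k := fun u hu => ew1 u ▸ t2 w1 nw hw1 u hu
    rcases f4_cases c with rfl | rfl | rfl | rfl
    · exact absurd rfl c0
    · rwa [one_smul]
    · exact k u hu
    · have := k _ (k u hu)
      rwa [smul_smul, show om * om = om + (1 : F4) by decide] at this
  have t4 : T p := r1 ▸ t2 g1 ng1 hg1 x t1
  have t5 : T (x + p) := r2 ▸ t2 g1 ng1 hg1 p t4
  let K : Finset (F4 × F4) := Finset.univ.filter fun k => k ≠ 0 ∧ (k.1 = 0 ∨ k.2 = 0 ∨ k.1 = k.2)
  have pu : ∀ f, Sg z f → f ∈ h.Pre x p →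
      π f ∈ (fun k : F4 × F4 => k.1 • x + k.2 • p) '' (K : Set (F4 × F4)) := fun f sf hf => by
    obtain ⟨c, y, c0, hy, e⟩ := sf.pure h
    have b1 := hf.2.1
    have b2 := hf.2.2
    rw [e, B4_sl, mul_eq_zero] at b1 b2
    rcases re_plane hl hx hp hy (b1.resolve_left c0) (b2.resolve_left c0) with k | k | k | k
    · exact absurd (by rw [e, k, smul_zero]) (sf.iso h0).1
    · exact ⟨(c, 0), by simp [K, c0], by simp [e, k]⟩
    · exact ⟨(0, c), by simp [K, c0], by simp [e, k]⟩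
    · exact ⟨(c, c), by simp [K, c0], by simp [e, k]⟩
  let F : F4 → F4 → Set G := fun s t => {o | o ∈ S ∧ ∀ y, act o y = hm x p (s, t, s + t) y}
  have f0 : (F 0 0).ncard = 19 := by
    have e : F 0 0 = insert z {f | f ∈ QQ z ∧
        π f ∈ (fun k : F4 × F4 => k.1 • x + k.2 • p) '' (K : Set (F4 × F4))} := by
      ext o
      constructor
      · rintro ⟨o1, o2⟩
        have oq : o ∈ QQ z := h.mem_of_act (h.cen_comm (s1 o o1).1.1) fun y => by
          rw [o2, add_zero]; exact hm_zero x p y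
        by_cases oz : o = z
        · exact Or.inl oz
        · exact Or.inr ⟨oq, pu o ⟨h.big, (s1 o o1).2, oq, oz⟩ (mem_pre h0 hl oq (s1 o o1).1.1)⟩
      · have tr : ∀ o ∈ QQ z, ∀ y, act o y = hm x p (0, 0, 0 + 0) y := fun o ho y => by
          rw [h.act_of_mem ho, add_zero]; exact (hm_zero x p y).symm
        rintro (rfl | ⟨o1, ⟨c, d⟩, k, e⟩)
        · exact ⟨zS, tr _ h.big.z_mem⟩
        · refine ⟨?_, tr o o1⟩
          simp only [K, Finset.coe_filter, Finset.mem_univ, true_and, Set.mem_ofPred_eq, ne_eq,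
            Prod.mk_eq_zero] at k
          obtain ⟨k1, rfl | rfl | rfl⟩ := k
          · exact t3 p t4 d (by simpa using k1) o o1 (by simp [← e])
          · exact t3 x t1 c (by simpa using k1) o o1 (by simp [← e])
          · exact t3 _ t5 c (by simpa using k1) o o1 (by simp [← e])
    rw [e, Set.ncard_insert_of_notMem, ncard_pre h0, Set.ncard_image_of_injective _ (pl_inj hl),
      Set.ncard_coe_finset, show K.card = 9 by decide +kernel]
    rintro ⟨-, k, k1, k2⟩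
    rw [h.self] at k2
    have := hl.inj (c' := 0) (d' := 0) (k2.trans (by simp))
    simp only [K, Finset.coe_filter, Set.mem_ofPred_eq] at k1
    exact k1.2.1 (Prod.ext this.1 this.2)
  have nz : ¬ IsConj z (z * n1) := fun c => by
    have mem : z * a * m ∈ h.Pre x p := mul_mem (mul_mem (h.z_mem_Pre x p) aJ) mJ
    have ep : π (z * a * m) = (1 : F4) • x + om • p := by
      rw [h.mul _ s'.sg.mem m hm', s'.eq, em, one_smul]
    have e : z * n1 = TT.cj g (z * a * m) := by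
      rw [cj_mul, cj_mul, eg, ga, mul_assoc z a a, sa.big'.sq, mul_one]
    obtain ⟨k, k1, k2⟩ := pu _ ⟨h.big, c.trans (e ▸ (TT.isConj_cj g _).symm), mem.1, fun k => by
      rw [k, h.self] at ep
      exact one_ne_zero (hl.inj (c' := 0) (d' := 0) (ep.symm.trans (by simp))).1⟩ mem
    have := hl.inj (k2.trans ep)
    obtain rfl : k = (1, om) := Prod.ext this.1 this.2
    revert k1
    simp only [K, Finset.coe_filter, Set.mem_ofPred_eq]
    decide
  have f1 : (F 1 0).ncard = 16 := by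
    have cov : ∀ f ∈ h.Pre x p, ∃ q ∈ QQ z, f * n1 = TT.cj q n1 ∨ f * n1 = z * TT.cj q n1 :=
      fun f hf => by
        obtain ⟨c, d, e⟩ := hl.mem hf.2.1 hf.2.2
        obtain ⟨y, y1, y2⟩ := hl.dual d (c + d)
        obtain ⟨q, hq, rfl⟩ := h.surj y
        have cq : cm n1 q ∈ QQ z := by
          rw [cm_eq n1 q n11]
          exact mul_mem hq (h.big.cj_mem zn1 (inv_mem hq))
        refine ⟨q, hq, ((h.eq_iff hf.1 cq).1 ?_).imp (fun k => by rw [k, cj_eq_cm n11])
          fun k => by rw [k, cj_eq_cm n11, mul_assoc]⟩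
        rw [h.pi_cm zn1 n11 hq, en1, add_hm, y1, y2, e]
        simp only [add_zero, map_one, mul_one, mul_zero]
        rw [add_comm c d, ← add_assoc, f4_add_self, zero_add]
    have n1S : n1 ∈ S := s2 g ng m (t3 p t4 om (by decide) m hm' em)
    have e : F 1 0 = (fun q => TT.cj q n1) '' (QQ z : Set G) := by
      ext o
      constructor
      · rintro ⟨o1, o2⟩
        obtain ⟨q, hq, k | k⟩ := cov _ (k0 o (s1 o o1).1.1 n1 n1C fun y => (o2 y).trans (en1 y).symm)
        · exact ⟨q, hq, k.symm.trans (inv_mul_cancel_right o n1)⟩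
        · rw [inv_mul_cancel_right, ← zc q hq] at k
          exact absurd ((s1 o o1).2.trans (k ▸ (TT.isConj_cj q _).symm)) nz
      · rintro ⟨q, hq, rfl⟩
        exact ⟨s2 q (nQ q hq) n1 n1S, fun y => by rw [aQ q hq n1 zn1, en1]⟩
    have e2 : (· * n1) '' (h.Pre x p : Set G) = F 1 0 ∪ (z * ·) '' F 1 0 := by
      ext o
      constructor
      · rintro ⟨f, hf, rfl⟩
        obtain ⟨q, hq, k | k⟩ := cov f hf
        · exact Or.inl (e ▸ ⟨q, hq, k.symm⟩)
        · exact Or.inr ⟨_, e ▸ ⟨q, hq, rfl⟩, k.symm⟩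
      · have k : ∀ o ∈ F 1 0, o * n1⁻¹ ∈ h.Pre x p := fun o ho =>
          k0 o (s1 o ho.1).1.1 n1 n1C fun y => (ho.2 y).trans (en1 y).symm
        rintro (ho | ⟨o, ho, rfl⟩)
        · exact ⟨_, k o ho, inv_mul_cancel_right o n1⟩
        · exact ⟨_, mul_mem (h.z_mem_Pre x p) (k o ho), by simp [mul_assoc]⟩
    have e3 := congrArg Set.ncard e2
    rw [Set.ncard_image_of_injective _ (mul_left_injective n1), Set.ncard_union_eq,
      Set.ncard_image_of_injective _ (mul_right_injective z)] at e3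
    · have : (h.Pre x p : Set G).ncard = 32 := card_Pre h0 hl
      omega
    · rw [Set.disjoint_left]
      rintro _ o1 ⟨o, ho, rfl⟩
      obtain ⟨q, hq, rfl⟩ := e ▸ ho
      have k := (s1 _ o1.1).2
      simp only [← zc q hq] at k
      exact nz (k.trans (TT.isConj_cj q _).symm)
  have f2 : ∀ s t : F4, s4 s = s → s4 t = t → (F s t).ncard ≤ (F t (s + t)).ncard :=
    fun s t hs ht => by
      rw [← ncard_image_cj g1 (F s t)]
      refine Set.ncard_le_ncard ?_ (Set.toFinite _)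
      rintro _ ⟨o, ho, rfl⟩
      exact ⟨s2 g1 ng1 o ho.1, rot o (s1 o ho.1).1.1 s t hs ht ho.2⟩
  have a1 := f2 1 0 (map_one _) (map_zero _)
  have a2 := f2 0 1 (map_zero _) (map_one _)
  have a3 := f2 1 1 (map_one _) (map_one _)
  rw [add_zero] at a1
  rw [zero_add] at a2
  rw [f4_add_self] at a3
  have dj : ∀ s t s' t' : F4, (s, t) ≠ (s', t') → Disjoint (F s t) (F s' t') := fun s t s' t' k =>
    Set.disjoint_left.2 fun o o1 o2 => k (by
      have := hl.hm_inj fun y => (o1.2 y).symm.trans (o2.2 y)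
      simp only [Prod.mk.injEq] at this
      rw [this.1, this.2.1])
  have cS : S = (F 0 0 ∪ F 1 0) ∪ (F 0 1 ∪ F 1 1) := by
    ext o
    refine ⟨fun ho => ?_, by rintro ((k | k) | (k | k)) <;> exact k.1⟩
    obtain ⟨-, s, t, hs, ht, e⟩ := (s1 o ho).1
    rcases f4_fixed s hs with rfl | rfl <;> rcases f4_fixed t ht with rfl | rfl
    exacts [Or.inl (Or.inl ⟨ho, e⟩), Or.inr (Or.inl ⟨ho, e⟩), Or.inl (Or.inr ⟨ho, e⟩),
      Or.inr (Or.inr ⟨ho, e⟩)]
  refine not_dvd_orbit (p := 67) (fun c => ⟨1, Subtype.ext (by simpa [pow_two] using Jsq c c.2)⟩)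
    (card_JJ h0 hl) zJ (by norm_num) (by decide) ?_
  rw [← hS, cS, Set.ncard_union_eq (by
      simp only [Set.disjoint_union_left, Set.disjoint_union_right]
      exact ⟨⟨dj _ _ _ _ (by decide), dj _ _ _ _ (by decide)⟩, dj _ _ _ _ (by decide),
        dj _ _ _ _ (by decide)⟩),
    Set.ncard_union_eq (dj _ _ _ _ (by decide)), Set.ncard_union_eq (dj _ _ _ _ (by decide)), f0, f1,
    show (F 0 1).ncard = 16 by omega, show (F 1 1).ncard = 16 by omega]

end Cfsg.Agent.X6
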