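import Mathlib
import Cfsg.Agent.X6.Defs

/-!
The tensor case: no conjugate of `z` outside `QQ z` commutes with `z` when `z` is weakly closed in `QQ z`.
-/

set_option autoImplicit false
set_option linter.unusedSectionVars false

namespace Cfsg.Agent.X6

open Cfsg.Agent.Spor Cfsg.Agent.Spor.TT Cfsg.Agent.Cl Cfsg.Agent.LX Subgroup QuadraticMap Module
  Equiv Equiv.Perm

variable {G : Type*} [Group G] [Finite G] {z a y w : G} {π : G → V4} {act : G → V4 → V4}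

theorem card_D_four (h : UCo0 z π act) (hp : Pr z a) : Nat.card ↥(QQ z ⊓ QQ a) ≤ 4 := by
  rcases two_or (QQ z ⊓ QQ a) with ⟨d, -, k⟩ | ⟨x, hx, y, hy, x1, y1, xy⟩
  · exact (card_le_two k).trans (by norm_num)
  · exact card_le_four fun d hd => hp.D_four (h.eps0 hp) hx.1 hx.2 hy.1 hy.2 x1 y1 xy hd.1 hd.2

theorem TCo.not_tv_re (h : TCo z π act) (hp : Pr z a) {v : V4} (hv : Iso4 v) (hr : Re4 v)
    (e : ∀ w, act a w = tv4 v w) : False := by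
  obtain ⟨π', act', h'⟩ := HU0.of_isConj ⟨_, _, h.toUCo0⟩ hp.nb.1
  obtain ⟨u, -, e'⟩ := h.tv_symm h' hp hv e
  have l0 := h'.card_A_tv hp.symm e'
  obtain ⟨x, hx, y, hy, x1, y1, xy⟩ := h.D_big hp hv e
  obtain ⟨w0, r0, h0⟩ := hr.exists_B hv.1
  have cB : ∀ g ∈ QQ a ⊓ centralizer ({z} : Set G), Commute z g := fun g hg => mem_centralizer_singleton.1 hg.2
  have k1 : ∀ g ∈ QQ a ⊓ centralizer ({z} : Set G), ∀ c : F4, act g (c • v) = c • v := fun g hg c => by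
    obtain ⟨f, hf, ef⟩ := h.surj (c • v)
    obtain ⟨w, hw⟩ := exists_B4 hv.1 c
    rw [← ef]
    exact (h.act_eq_iff (cB g hg) hf).2 (Or.inl (cj_of_commute (hp.B_comm_U (h.eps0 hp) hx.1 hx.2 hy.1 hy.2 x1 y1 xy
      hg.1 (cB g hg) (h.mem_U hp hf (w := w) (by rw [ef, e, add_tv4, hw])))))
  have k2 : ∀ g ∈ QQ a ⊓ centralizer ({z} : Set G), act g v = v := fun g hg => by simpa using k1 g hg 1
  have k3 : ∀ g ∈ QQ a ⊓ centralizer ({z} : Set G), Lin (act g) := fun g hg =>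
    (h.semi g (cB g hg)).resolve_right fun hs => by
      have := k1 g hg om
      rw [hs, k2 g hg] at this
      exact absurd (smul_left_injective F4 hv.1 this) (by decide)
  have k4 : ∀ g ∈ QQ a ⊓ centralizer ({z} : Set G), B4 (w0 + act g w0) v = 0 ∧
      ∀ w, B4 w v = 0 → act g w = w + B4 w (w0 + act g w0) • v := fun g hg =>
    h.eich ⟨cB g hg, k3 g hg⟩ hv h0 (k2 g hg) fun w hw => by
      obtain ⟨f, hf, rfl⟩ := h.surj w
      obtain ⟨d1, d2⟩ := hp.comm_mem hf ((h.comm_iff hp hf).2 (by rw [e, tv4_of_perp hw])) hg.1 (cB g hg)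
      rw [← h.pi_comm hf (cB g hg)]
      by_cases n : f * TT.cj g f⁻¹ = 1
      · exact ⟨0, by rw [n, h.one, zero_smul]⟩
      · obtain ⟨t, ht, et⟩ := hp.D_of_zero (h.eps0 hp) d1 d2 n
        exact ⟨_, by rw [et, h.z_mul (hp.cm_mem ht), h.pi_cm hp.comm hp.sq ht, e, add_tv4]⟩
  have k5 : ∀ g ∈ QQ a ⊓ centralizer ({z} : Set G), Re4 (w0 + act g w0) := fun g hg =>
    r0.add (h.re (cB g hg) hr hv.1 ((k2 g hg).symm ▸ hr) r0)
  have k6 := card_le_mul_of_fiber (QQ a ⊓ centralizer ({z} : Set G)) (QQ z ⊓ QQ a)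
    (fun g => ((w0 + act g w0) 0, (w0 + act g w0) 2))
    (Finset.univ.filter fun p : F4 × F4 => p.1 * s4 (v 0) + s4 p.1 * v 0 + p.2 * s4 (v 2) + s4 p.2 * v 2 = 0)
    (fun g hg => Finset.mem_filter.2 ⟨Finset.mem_univ _, ((k5 g hg).B hr).symm.trans (k4 g hg).1⟩)
    fun g hg g' hg' c => ⟨h.mul_inv_mem (cB g hg) (cB g' hg') fun w => by
      have c0 : act g w0 = act g' w0 := add_left_cancel (a := w0) (by
        rw [(k5 g hg).eq, (k5 g' hg').eq, (Prod.mk.inj c).1, (Prod.mk.inj c).2])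
      have hw : B4 (w + B4 w v • w0) v = 0 := by rw [B4_al, B4_sl, h0, mul_one, f4_add_self]
      have j1 := (k4 g hg).2 _ hw
      have j2 := (k4 g' hg').2 _ hw
      rw [c0, ← j2, h.act_add (cB g hg), h.act_add (cB g' hg'), k3 g hg, k3 g' hg', c0] at j1
      exact add_right_cancel j1, mul_mem hg.1 ((QQ a).inv_mem hg'.1)⟩
  have k7 : ∀ s t : F4, ¬ (s = 0 ∧ t = 0) → (Finset.univ.filter fun p : F4 × F4 =>
      p.1 * s4 s + s4 p.1 * s + p.2 * s4 t + s4 p.2 * t = 0).card = 8 := by decide +kernel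
  rw [k7 _ _ fun c => hv.1 (hr.eq.trans (by rw [c.1, c.2, map_zero]; funext i; fin_cases i <;> rfl))] at k6
  have := card_D_four h.toUCo0 hp
  omega

theorem TCo.not_tv (h : TCo z π act) (hp : Pr z a) {v : V4} (hv : Iso4 v) (e : ∀ w, act a w = tv4 v w) : False := by
  obtain ⟨p, hp1, hp2⟩ : ∃ p, Re4 p ∧ B4 p v ≠ 0 := by
    obtain ⟨w, hw⟩ := exists_B4 hv.1 1
    obtain ⟨s, t, hs, ht, rfl⟩ := exists_re w
    by_contra n
    push Not at n
    rw [B4_re, n s hs, n t ht] at hw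
    exact absurd hw (by decide)
  have k : ∀ c : F4, c ≠ 0 → s4 c * c = 1 := by decide
  refine h.not_tv_re hp (v := B4 p v • v) ⟨smul_ne_zero hp2 hv.1, by rw [B4_sl, B4_sr, hv.2]; simp⟩ ?_ fun w => by
    rw [e, tv4, tv4, B4_sr, smul_smul, mul_right_comm, k _ hp2, one_mul]
  rw [← add_tv4, ← e]
  exact hp1.add (h.re_of_sq hp.comm (h.lin_of_pr hp) (hp.sq ▸ one_mem _) hp1)

theorem Pre_le (h : UCo0 z π act) {x y x' y' : V4} (hl : Pl x y) (h1 : B4 x x' = 0) (h2 : B4 x y' = 0)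
    (h3 : B4 y x' = 0) (h4 : B4 y y' = 0) : h.Pre x y ≤ h.Pre x' y' := fun f hf => by
  obtain ⟨c, d, e⟩ := hl.mem hf.2.1 hf.2.2
  refine ⟨hf.1, ?_⟩
  rw [e, B4_al, B4_al, B4_sl, B4_sl, B4_sl, B4_sl, h1, h2, h3, h4]
  simp

theorem TCo.exists_real (h : TCo z π act) (hp : Pr z a) {x y : V4} (hl : Pl x y)
    (e : ∀ w, act a w = hm x y (1, 1, 0) w) :
    ∃ s t, Re4 s ∧ Re4 t ∧ Pl s t ∧ h.Pre x y = h.Pre s t := by
  have k0 : ∀ w, w + act a w = B4 w x • x + B4 w y • y := fun w => by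
    rw [e, hm, ← add_assoc, v4_add_self]; simp
  have k1 : ∀ s, Re4 s → Re4 (s + act a s) := fun s hs =>
    hs.add (h.re_of_sq hp.comm (h.lin_of_pr hp) (hp.sq ▸ one_mem _) hs)
  have k2 : ∀ u, (∀ s, Re4 s → s + act a s = 0 ∨ s + act a s = u) → False := fun u hu => by
    have j : ∀ c d : F4, ∃ t : F4, c • x + d • y = t • u := fun c d => by
      obtain ⟨w, rfl, rfl⟩ := hl.dual c d
      obtain ⟨s, t, hs, ht, rfl⟩ := exists_re w
      rw [← k0, h.act_add hp.comm, h.lin_of_pr hp, add_add_add_comm, ← smul_add]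
      rcases hu s hs with j | j <;> rcases hu t ht with j' | j' <;> rw [j, j']
      exacts [⟨0, by simp⟩, ⟨om, by simp⟩, ⟨1, by simp⟩, ⟨1 + om, by simp [add_smul]⟩]
    obtain ⟨s, es⟩ := j 1 0
    obtain ⟨t, et⟩ := j 0 1
    simp only [one_smul, zero_smul, add_zero, zero_add] at es et
    have := LinearIndependent.pair_iff.1 hl.hi t s (by rw [es, et, smul_smul, smul_smul, mul_comm, v4_add_self])
    exact hl.hi.ne_zero 0 (show x = 0 by rw [es, this.2, zero_smul])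
  obtain ⟨s, hs, s0⟩ : ∃ s, Re4 s ∧ s + act a s ≠ 0 := by
    by_contra n
    push Not at n
    exact k2 0 fun s hs => Or.inl (n s hs)
  obtain ⟨t, ht, t0, ts⟩ : ∃ t, Re4 t ∧ t + act a t ≠ 0 ∧ t + act a t ≠ s + act a s := by
    by_contra n
    push Not at n
    exact k2 _ fun t ht => or_iff_not_imp_left.2 (n t ht)
  have pl := (k1 s hs).pl (k1 t ht) s0 t0 ts.symm (by rw [k0, k0, hl.both])
  have b1 : ∀ w, B4 (w + act a w) x = 0 := fun w => by rw [k0, hl.left]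
  have b2 : ∀ w, B4 (w + act a w) y = 0 := fun w => by rw [k0, hl.right]
  exact ⟨_, _, k1 s hs, k1 t ht, pl, le_antisymm (Pre_le h.toUCo0 hl (B4_comm.1 (b1 s)) (B4_comm.1 (b1 t))
    (B4_comm.1 (b2 s)) (B4_comm.1 (b2 t))) (Pre_le h.toUCo0 pl (b1 s) (b2 s) (b1 t) (b2 t))⟩

theorem TCo.alt (h : TCo z π act) (hp : Pr z a) : (∀ s, Re4 s → B4 s (s + act a s) = 0) ∧
    ∃ b, Pr z b ∧ ∃ s, Re4 s ∧ B4 s (s + act b s) = 1 := by
  have hs := hp.symm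
  obtain ⟨π', act', h'⟩ := HT.of_isConj ⟨_, _, h⟩ hp.nb.1
  obtain ⟨x', y', hl', e'⟩ := h'.exists_rk hs (h'.lin_of_pr hs) fun ⟨v, hv, e⟩ => h'.not_tv hs hv e
  obtain ⟨x0, y0, hl0, e0⟩ := h.exists_rk hp (h.lin_of_pr hp) fun ⟨v, hv, e⟩ => h.not_tv hp hv e
  obtain ⟨x, p, rx, rp, hl, ep⟩ := h.exists_real hp hl0 e0
  obtain ⟨q, rq, q1, q2⟩ : ∃ q, Re4 q ∧ B4 q x = 1 ∧ B4 q p = 0 := by
    obtain ⟨w, h1, h2⟩ := hl.dual 1 0
    obtain ⟨s, t, r1, r2, rfl⟩ := exists_re w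
    have k : ∀ a b c : F4, s4 a = a → s4 b = b → s4 c = c → a + om * b = c → a = c := by decide
    rw [B4_re] at h1 h2
    exact ⟨s, r1, k _ _ _ (r1.B_fix rx) (r2.B_fix rx) (map_one _) h1, k _ _ _ (r1.B_fix rp) (r2.B_fix rp) (map_zero _) h2⟩
  have k1 : ∀ g ∈ centralizer (h.Pre x0 y0 : Set G), ∃ κ, (Herm κ ∧ s4 κ.2.2 = κ.2.2) ∧
      ∀ w, act g w = hm x p κ w := fun g hg => by
    rw [ep] at hg
    obtain ⟨κ, hκ, e⟩ := h.cen_hm hl hg
    refine ⟨κ, ⟨hκ, rp.of_smul (hl.hi.ne_zero 1) ?_⟩, e⟩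
    have := (rq.add (h.re (h.cen_comm hg) rx (hl.hi.ne_zero 0) (by rw [e, hm, hl.hx, hl.hxy]; simpa using rx) rq)).add
      (rx.smul hκ.1)
    rw [e, hm, q1, q2, ← add_assoc, v4_add_self] at this
    simp only [one_mul, zero_mul, add_zero, zero_add] at this
    rwa [add_right_comm, v4_add_self, zero_add] at this
  have k2 : ∀ g ∈ hs.U, g ∈ centralizer (h.Pre x0 y0 : Set G) := fun g hg => h.Pre_comm h'.toUCo0 hp hl0 e0 hg
  have k3 : ∀ κ, Herm κ → s4 κ.2.2 = κ.2.2 → ∃ g ∈ hs.U, ∀ w, act g w = hm x p κ w := fun κ r1 r2 => by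
    by_contra n
    push Not at n
    choose! f hf using k1
    have j := card_le_mul_of_fiber hs.U (QQ z ⊓ QQ a) f
      ((Finset.univ.filter fun κ => Herm κ ∧ s4 κ.2.2 = κ.2.2).erase κ)
      (fun g hg => Finset.mem_erase.2 ⟨fun c => (n g hg).elim fun w hw => hw (c ▸ (hf g (k2 g hg)).2 w),
        Finset.mem_filter.2 ⟨Finset.mem_univ _, (hf g (k2 g hg)).1⟩⟩)
      fun g hg g' hg' c => ⟨h.mul_inv_mem (h.cen_comm (k2 g hg)) (h.cen_comm (k2 g' hg')) fun w => by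
        rw [(hf g (k2 g hg)).2, (hf g' (k2 g' hg')).2, c], hs.U_le (mul_mem hg (inv_mem hg'))⟩
    rw [Finset.card_erase_of_mem (Finset.mem_filter.2 ⟨Finset.mem_univ _, r1, r2⟩),
      show (Finset.univ.filter fun κ => Herm κ ∧ s4 κ.2.2 = κ.2.2).card = 8 by decide +kernel,
      h'.U_eq hs hl' e', h'.card_Pre hs hl' e'] at j
    have := card_D_four h.toUCo0 hp
    omega
  obtain ⟨κ, ⟨r1, r2⟩, ea⟩ := k1 a (h.a_mem_cen hp hl0 e0)
  have k4 : ∀ t ∈ QQ a, ∀ κ, κ ≠ 0 → (∀ w, act (cm z t) w = hm x p κ w) →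
      ∃ b, Pr z b ∧ ∀ w, act b w = hm x p κ w := fun t ht κ h0 e => by
    have c := h.cen_comm (k2 _ (hs.cm_mem_U ht))
    have j : ∀ w, act (cm z t * z) w = hm x p κ w := fun w => by
      rw [h.act_mul c (Commute.refl z), h.act_of_mem h.big.z_mem, e]
    exact ⟨_, ⟨hp.big, hp.wc, hp.nb.1.trans (hs.isConj_cm t), fun n => h0 (hl.hm_inj fun w => by
      rw [← j, n, h.act_of_mem h.big.z_mem, hm_zero]), c.mul_right (Commute.refl z)⟩, j⟩
  have k5 : ∀ b, Pr z b → ∀ κ, (∀ w, act b w = hm x p κ w) → κ ≠ (1, 0, 0) ∧ κ ≠ (0, 1, 0) ∧ κ ≠ (1, 1, 1) :=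
    fun b hb κ e => by
      refine ⟨?_, ?_, ?_⟩ <;> rintro rfl
      · exact h.not_tv hb (v := x) ⟨hl.hi.ne_zero 0, hl.hx⟩ fun w => by simp [e, hm, tv4]
      · exact h.not_tv hb (v := p) ⟨hl.hi.ne_zero 1, hl.hy⟩ fun w => by simp [e, hm, tv4]
      · exact h.not_tv hb (v := x + p) ⟨fun c => one_ne_zero (q1.symm.trans (by rw [v4_add_eq_zero.1 c, q2])),
          (rx.add rp).B_self⟩ fun w => by simp [e, hm, tv4, B4_ar]
  have k6 : ∀ τ, τ = (1, 0, 0) ∨ τ = (0, 1, 0) ∨ τ = (1, 1, 1) → ∃ b, Pr z b ∧ ∀ w, act b w = hm x p (κ + τ) w :=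
    fun τ hτ => by
      obtain ⟨g, hg, e⟩ := k3 τ (by rcases hτ with rfl | rfl | rfl <;> decide) (by rcases hτ with rfl | rfl | rfl <;> decide)
      obtain ⟨t, ht, rfl | rfl⟩ := hs.mem_U.1 hg
      · obtain ⟨b, hb, eb⟩ := k4 t ht τ (by rcases hτ with rfl | rfl | rfl <;> decide) e
        have := k5 b hb τ eb
        tauto
      · have := k5 a hp κ ea
        refine k4 t ht _ (fun c => ?_) fun w => ?_
        · rw [← k3_add_self τ, add_left_inj] at c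
          exact hτ.elim (c ▸ this).1 fun j => j.elim (c ▸ this).2.1 (c ▸ this).2.2
        · rw [← hl.hm_hm, ← e, ← ea, h.act_mul hp.comm (h.cen_comm (k2 _ (hs.cm_mem_U ht))), h.act_act hp.comm hp.sq]
  obtain ⟨b1, p1, e1⟩ := k6 _ (Or.inl rfl)
  obtain ⟨b2, p2, e2⟩ := k6 _ (Or.inr (Or.inl rfl))
  have k7 : ∀ κ : F4 × F4 × F4, Herm κ → s4 κ.2.2 = κ.2.2 → κ ≠ 0 →
      κ ≠ (1, 0, 0) ∧ κ ≠ (0, 1, 0) ∧ κ ≠ (1, 1, 1) →
      κ + (1, 0, 0) ≠ (1, 0, 0) ∧ κ + (1, 0, 0) ≠ (0, 1, 0) ∧ κ + (1, 0, 0) ≠ (1, 1, 1) →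
      κ + (0, 1, 0) ≠ (1, 0, 0) ∧ κ + (0, 1, 0) ≠ (0, 1, 0) ∧ κ + (0, 1, 0) ≠ (1, 1, 1) → κ = (0, 0, 1) := by
    decide +kernel
  obtain rfl := k7 κ r1 r2 (fun c => hp.not_mem (h.mem_of_act hp.comm fun w => by rw [ea, c, hm_zero]))
    (k5 a hp _ ea) (k5 b1 p1 _ e1) (k5 b2 p2 _ e2)
  refine ⟨fun s rs => ?_, b1, p1, q, rq, ?_⟩
  · rw [ea, hm, ← add_assoc, v4_add_self, zero_add, B4_ar, B4_sr, B4_sr]
    simp [rs.B_fix rx, rs.B_fix rp, mul_comm, f4_add_self]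
  · rw [e1, hm, ← add_assoc, v4_add_self, zero_add, B4_ar, B4_sr, B4_sr]
    simp [q1, q2]

/-- In the tensor case there is no commuting conjugate outside `QQ z` (weakly closed case). -/
theorem HT.not_pr (h : HT z) : ¬ Pr z a := fun hp => by
  obtain ⟨π, act, h⟩ := h
  obtain ⟨-, b, hb, s, rs, e⟩ := h.alt hp
  exact zero_ne_one (((h.alt hb).1 s rs).symm.trans e)

end Cfsg.Agent.X6
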