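import Mathlib
import Cfsg.Agent.X6.MA
import Cfsg.Agent.X6.MT
import Cfsg.Agent.X6.MR
import Cfsg.Agent.X6.TW
import Cfsg.Agent.X6.TN
import Cfsg.Agent.X6.R

/-!
An involution `z` with `QQ z` extraspecial of order `2^9` and `C(z) / QQ z` between `3 × A₆` and
`S₃ × S₆` is isolated.
-/

set_option autoImplicit false
set_option linter.unusedSectionVars false

namespace Cfsg.Agent.X6

open Cfsg.Agent.Spor Cfsg.Agent.Spor.TT Cfsg.Agent.Cl Cfsg.Agent.LX Subgroup QuadraticMap Module
  Equiv Equiv.Perm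

variable {G : Type*} [Group G] [Finite G] {z : G}

theorem ht_or (h : Big z) (φ : centralizer ({z} : Set G) →* Perm (Fin 3) × Perm (Fin 6))
    (hk : ∀ x, φ x = 1 ↔ (x : G) ∈ QQ z)
    (hs : ∀ σ τ, sign σ = 1 → sign τ = 1 → ∃ x, φ x = (σ, τ)) :
    HT z ∨ ∃ y w, YH z y ∧ WH z w := by
  obtain ⟨V, _, _, q, π, act, c⟩ := h.exists_co
  have hX : ∀ x : centralizer ({z} : Set G), Commute z x := fun x => mem_centralizer_singleton.1 x.2
  let f := φ.rangeRestrict
  have hf : Function.Surjective f := φ.rangeRestrict_surjective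
  have hk' : ∀ x, f x = 1 ↔ (x : G) ∈ QQ z := fun x => Subtype.ext_iff.trans (hk x)
  let s := Function.surjInv hf
  have key : ∀ x : centralizer ({z} : Set G), ∀ v, act (s (f x)) v = act x v := fun x v => by
    have k : ((s (f x) * x⁻¹ : centralizer ({z} : Set G)) : G) ∈ QQ z :=
      (hk' _).1 (by rw [map_mul, map_inv, Function.surjInv_eq hf, mul_inv_cancel])
    rw [← c.act_of_mem k (act x v), ← c.act_mul' (h.comm k) (hX x)]
    simp
  let _ : DistribMulAction φ.range V :=
    { smul := fun y v => act (s y) v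
      one_smul := fun v => by
        change act (s 1) v = v
        rw [← map_one f, key]
        exact c.act_of_mem (one_mem _) v
      mul_smul := fun y y' v => by
        obtain ⟨x, rfl⟩ := hf y
        obtain ⟨x', rfl⟩ := hf y'
        change act (s (f x * f x')) v = act (s (f x)) (act (s (f x')) v)
        rw [← map_mul, key, key, key]
        exact c.act_mul' (hX x) (hX x') v
      smul_zero := fun y => map_zero _
      smul_add := fun y => map_add _ }
  have sm : ∀ x : centralizer ({z} : Set G), ∀ v : V, f x • v = act x v := key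
  have mv : MV φ.range q := ⟨c.card, fun _ => c.nd, fun y => c.act_q (hX (s y)), fun y hy => by
    obtain ⟨x, rfl⟩ := hf y
    exact (hk' x).2 (c.mem_of_act (hX x) fun v => (sm x v).symm.trans (hy v))⟩
  have h36 : S36 φ.range.subtype := ⟨subtype_injective _, fun σ τ h1 h2 =>
    let ⟨x, e⟩ := hs σ τ h1 h2; ⟨⟨_, x, rfl⟩, e⟩⟩
  obtain ⟨w, hw⟩ := h36.sur c3 1 (by decide) (map_one _)
  obtain ⟨φ', h', hw', t | t⟩ := dich mv h36 hw
  · obtain ⟨Φ, k⟩ := t.tm mv hw'
    have ap : ∀ g (hg : Commute z g) u, act g u = f ⟨g, mem_centralizer_singleton.2 hg⟩ • u :=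
      fun g hg u => (sm ⟨g, mem_centralizer_singleton.2 hg⟩ u).symm
    refine Or.inl ⟨fun x => Φ.symm (π x), fun g u => Φ.symm (act g (Φ u)),
      ⟨h, fun x hx y hy => by rw [c.mul x hx y hy, map_add], fun x hx => by
        rw [AddEquiv.map_eq_zero_iff, c.ker x hx], fun v => ?_, fun x hx => by
        rw [← k.sq, AddEquiv.apply_symm_apply, c.sq x hx], fun g hg x hx => by
        rw [AddEquiv.apply_symm_apply, c.conj g hg x hx], fun g hg => ?_⟩, fun g hg => ?_,
      ⟨s w, hX _, k.sc⟩, fun x p h1 h2 h3 h4 h5 h6 => ?_⟩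
    · obtain ⟨x, hx, e⟩ := c.surj (Φ v)
      exact ⟨x, hx, by rw [e, AddEquiv.symm_apply_apply]⟩
    · simpa only [ap g hg] using k.semi _
    · simpa only [ap g hg] using k.real _
    · obtain ⟨g, k1⟩ := k.rot x p h1 h2 h3 h4 h5 h6
      exact ⟨s g, hX _, k1⟩
  · obtain ⟨k1, v, k2, k3⟩ := t.fix mv hw'
    obtain ⟨y, hy, rfl⟩ := c.surj v
    obtain ⟨x, rfl⟩ := hf w
    have p3 := h36.w_pow3 hw
    have e4 : f (x ^ 4) = f x := by rw [map_pow, pow_succ, p3, one_mul]
    have x3 : ((x ^ 4 : centralizer ({z} : Set G)) : G) ^ 3 = 1 := by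
      rw [← h.es.aes.pow_four ((hk' (x ^ 3)).1 (by rw [map_pow, p3]))]
      simp only [SubmonoidClass.coe_pow, ← pow_mul]
    refine Or.inr ⟨y, (x ^ 4 : centralizer ({z} : Set G)), ⟨h, hy, (c.sq' hy).2 k2, fun g hg =>
      (c.act_eq_iff hg hy).1 ((sm ⟨g, mem_centralizer_singleton.2 hg⟩ _).symm.trans (k3 _))⟩,
      h, hX _, x3, fun g hg => ?_, ?_⟩
    · let g' : centralizer ({z} : Set G) := ⟨g, mem_centralizer_singleton.2 hg⟩
      refine (h36.w_norm hw (f g')).imp (fun e => (hk' (TT.cj g' (x ^ 4) * (x ^ 4)⁻¹)).1 ?_)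
        fun e => (hk' (TT.cj g' (x ^ 4) * x ^ 4)).1 ?_
      · rw [map_mul, map_inv, map_cj, e4, e, mul_inv_cancel]
      · rw [map_mul, map_cj, e4, e, ← pow_three', p3]
    · have e : QQ z ⊓ centralizer ({((x ^ 4 : centralizer ({z} : Set G)) : G)} : Set G) =
          c.up (AddSubgroup.toZModSubmodule 2 (Fx V (f x))) := by
        ext b
        refine and_congr_right fun hb => ?_
        change _ ↔ f x • π b = π b
        rw [← e4, sm, c.act_eq_iff (hX _) hb]
        refine ⟨fun k => Or.inl (cj_of_commute (mem_centralizer_singleton.1 k)), fun k =>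
          mem_centralizer_singleton.2 (cj_eq_self_iff.1 (k.resolve_right fun k => h.ne_one ?_))⟩
        have k4 := cj_one b
        rw [← x3, pow_three, ← cj_cj, ← cj_cj, k, cj_mul, cj_of_commute (hX _).symm, k,
          h.es.z_mul_z_mul, k] at k4
        exact mul_eq_right.1 k4
      rw [e, c.card_up]
      exact congrArg (2 * ·) k1

theorem isolated (h : Big z) (φ : centralizer ({z} : Set G) →* Perm (Fin 3) × Perm (Fin 6))
    (hk : ∀ x, φ x = 1 ↔ (x : G) ∈ QQ z)
    (hs : ∀ σ τ, sign σ = 1 → sign τ = 1 → ∃ x, φ x = (σ, τ)) : IsIsolatedInvolution z := by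
  rcases ht_or h φ hk hs with k | ⟨y, w, k1, k2⟩
  · exact isolated_of_Nb h fun _ ha => k.not_pr ⟨h, k.wc, ha⟩
  · exact isolated_of_Nb h fun _ ha => k1.not_pr ⟨h, k2.wc, ha⟩

theorem not_simple (h : Big z) (φ : centralizer ({z} : Set G) →* Perm (Fin 3) × Perm (Fin 6))
    (hk : ∀ x, φ x = 1 ↔ (x : G) ∈ QQ z)
    (hs : ∀ σ τ, sign σ = 1 → sign τ = 1 → ∃ x, φ x = (σ, τ)) : ¬ IsSimpleGroup G := fun hG => by
  have k := sup_eq_top_of_isolated (isolated h φ hk hs)
  have z2 := h.es.orderOf_z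
  rcases (inferInstance : (oddCore G).Normal).eq_bot_or_eq_top with e | e
  · rw [e, sup_bot_eq] at k
    have zc : z ∈ center G := mem_center_iff.2 fun g =>
      (mem_centralizer_singleton.1 (k ▸ mem_top g)).symm
    rcases (inferInstance : (center G).Normal).eq_bot_or_eq_top with e | e
    · exact h.ne_one (mem_bot.1 (e ▸ zc))
    · obtain ⟨x, -, y, -, n⟩ := h.es.nonab
      exact n (mem_center_iff.1 (e ▸ mem_top y) x)
  · have := (GT.odd_card_oddCore (G := G)).of_dvd_nat
      (orderOf_dvd_natCard (oddCore G) (e ▸ mem_top z : z ∈ oddCore G))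
    rw [z2] at this
    exact absurd this (by decide)

end Cfsg.Agent.X6
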